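import Groth.Agent.Lib.GenHom20.Test

/-!
# Band matrices of coordinates
-/

set_option autoImplicit false
set_option backward.isDefEq.respectTransparency false
set_option linter.style.haveILetI false
set_option maxHeartbeats 400000

universe u

open CategoryTheory CategoryTheory.Limits AlgebraicGeometry TopologicalSpace

noncomputable section

namespace GrothLib.GenHom20

section Triangular

variable {X : Scheme.{u}} {a : ℕ} (Y : Fin a → X.Modules) {B : X.Modules} (x : X)

/-- A residually triangular map out of a finite coproduct has trivial residual kernel. -/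
theorem residual_inj (φ : (∐ Y) ⟶ B) (ρ : Fin a → ℕ)
    (h : ∀ j, ∃ (Z : X.Modules) (π : B ⟶ Z),
      Function.Bijective (QCoh.stalkLin (Sigma.ι Y j ≫ φ ≫ π) x) ∧
        ∀ j', j' ≠ j → ρ j' < ρ j ∨
          ∀ w, QCoh.stalkLin (Sigma.ι Y j' ≫ φ ≫ π) x w ∈ mTop (X.presheaf.stalk x) _)
    (z : (∐ Y).presheaf.stalk x) (hz : QCoh.stalkLin φ x z ∈ mTop (X.presheaf.stalk x) _) :
    z ∈ mTop (X.presheaf.stalk x) _ := by
  classical
  refine mem_mTop_of_proj Y x z fun j => ?_
  induction hρ : ρ j using Nat.strong_induction_on generalizing j with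
  | h r ih =>
    obtain ⟨Z, π, hb, hm⟩ := h j
    refine mem_mTop_of_bijective _ hb ?_
    have e : QCoh.stalkLin (φ ≫ π) x z =
        ∑ j', QCoh.stalkLin (Sigma.ι Y j' ≫ φ ≫ π) x (QCoh.stalkLin (proj Y j') x z) := by
      conv_lhs => rw [stalk_decomp Y x z, map_sum]
      simp only [QCoh.stalkLin_comp]
    have h1 : QCoh.stalkLin (φ ≫ π) x z ∈ mTop (X.presheaf.stalk x) _ := by
      rw [QCoh.stalkLin_comp]; exact map_mem_mTop _ hz
    rw [e, ← Finset.add_sum_erase _ _ (Finset.mem_univ j)] at h1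
    refine (Submodule.add_mem_iff_left _ ?_).1 h1
    refine Submodule.sum_mem _ fun j' hj' => ?_
    rcases hm j' (Finset.ne_of_mem_erase hj') with hlt | hmem
    · exact map_mem_mTop _ (ih _ (hρ ▸ hlt) j' rfl)
    · exact hmem _

/-- A residually triangular map into a finite coproduct is surjective. -/
theorem surjective_of_triangular {A : X.Modules} (φ : A ⟶ ∐ Y) (ρ : Fin a → ℕ)
    [Module.Finite (X.presheaf.stalk x) ((∐ Y).presheaf.stalk x)]
    (h : ∀ i, ∃ (W : X.Modules) (κ : W ⟶ A),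
      Function.Bijective (QCoh.stalkLin (κ ≫ φ ≫ proj Y i) x) ∧
        ∀ i', i' ≠ i → ρ i' < ρ i ∨
          ∀ w, QCoh.stalkLin (κ ≫ φ ≫ proj Y i') x w ∈ mTop (X.presheaf.stalk x) _) :
    Function.Surjective (QCoh.stalkLin φ x) := by
  classical
  refine surjective_of_residual _ fun v => ?_
  rw [stalk_decomp Y x v]
  refine Submodule.sum_mem _ fun i _ => ?_
  generalize QCoh.stalkLin (proj Y i) x v = w
  clear v
  induction hρ : ρ i using Nat.strong_induction_on generalizing i with
  | h r ih =>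
    obtain ⟨W, κ, hb, hm⟩ := h i
    obtain ⟨u, hu⟩ := hb.2 w
    have h1 : QCoh.stalkLin φ x (QCoh.stalkLin κ x u) ∈
        LinearMap.range (QCoh.stalkLin φ x) ⊔ mTop (X.presheaf.stalk x) _ :=
      Submodule.mem_sup_left ⟨_, rfl⟩
    rw [stalk_decomp Y x (QCoh.stalkLin φ x (QCoh.stalkLin κ x u)),
      ← Finset.add_sum_erase _ _ (Finset.mem_univ i)] at h1
    have e : ∀ i', QCoh.stalkLin (proj Y i') x (QCoh.stalkLin φ x (QCoh.stalkLin κ x u)) =
        QCoh.stalkLin (κ ≫ φ ≫ proj Y i') x u := fun i' => by simp only [QCoh.stalkLin_comp]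
    simp only [e] at h1
    rw [hu] at h1
    refine (Submodule.add_mem_iff_left _ ?_).1 h1
    refine Submodule.sum_mem _ fun i' hi' => ?_
    rcases hm i' (Finset.ne_of_mem_erase hi') with hlt | hmem
    · exact ih _ (hρ ▸ hlt) i' (Finset.mem_univ _) _ rfl
    · exact Submodule.mem_sup_right (map_mem_mTop _ (hmem u))

end Triangular

variable {n : ℕ} {k : Type u} [Field k]

/-- The entry `X_{q-p}^d` of a band matrix, zero outside the band. -/
def ent (s t : ℤ) (d : ℕ) (h : t = d + s) (p q : ℕ) : O n k s ⟶ O n k t :=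
  if hb : p ≤ q ∧ q < p + (n + 1) then coordMul ⟨q - p, by omega⟩ d s t h else 0

theorem bijective_ent {s t : ℤ} {d : ℕ} (h : t = d + s) {p q : ℕ} {l : Fin (n + 1)} (hq : q = p + l) {x : P n k}
    (hx : MvPolynomial.X l ∉ x.asHomogeneousIdeal) :
    Function.Bijective (QCoh.stalkLin (ent (n := n) (k := k) s t d h p q) x) := by
  subst hq
  rw [ent, dif_pos ⟨Nat.le_add_right _ _, by omega⟩]
  exact bijective_coordMul _ d h (by simpa using hx)

theorem ent_mem {s t : ℤ} {d : ℕ} (hd : d ≠ 0) (h : t = d + s) {p q : ℕ} {l : Fin (n + 1)} {x : P n k}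
    (hl : ∀ l' : Fin (n + 1), l' < l → MvPolynomial.X l' ∈ x.asHomogeneousIdeal) (hq : q < p + l)
    (w : (O n k s).presheaf.stalk x) :
    QCoh.stalkLin (ent (n := n) (k := k) s t d h p q) x w ∈ mTop ((P n k).presheaf.stalk x) _ := by
  rw [ent]
  split
  · next hb => exact coordMul_mem _ hd h (hl ⟨q - p, by omega⟩ (show q - p < (l : ℕ) by omega)) w
  · rw [stalkLin_zero]; exact Submodule.zero_mem _

theorem ent_out {s t : ℤ} {d : ℕ} (h : t = d + s) {p q : ℕ} {x : P n k} (hq : q < p)
    (w : (O n k s).presheaf.stalk x) :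
    QCoh.stalkLin (ent (n := n) (k := k) s t d h p q) x w ∈ mTop ((P n k).presheaf.stalk x) _ := by
  rw [ent, dif_neg (by omega), stalkLin_zero]
  exact Submodule.zero_mem _

/-- The first coordinate not vanishing at a point. -/
theorem exists_first_coord (x : P n k) : ∃ l : Fin (n + 1), MvPolynomial.X l ∉ x.asHomogeneousIdeal ∧
    ∀ l' : Fin (n + 1), l' < l → MvPolynomial.X l' ∈ x.asHomogeneousIdeal := by
  classical
  let S : Finset (Fin (n + 1)) := Finset.univ.filter fun l => MvPolynomial.X l ∉ x.asHomogeneousIdeal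
  have hS : S.Nonempty := by
    obtain ⟨l, hl⟩ := exists_coord x
    exact ⟨l, Finset.mem_filter.2 ⟨Finset.mem_univ _, hl⟩⟩
  refine ⟨S.min' hS, (Finset.mem_filter.1 (S.min'_mem hS)).2, fun l' hl' => ?_⟩
  by_contra h
  exact absurd (S.min'_le l' (Finset.mem_filter.2 ⟨Finset.mem_univ _, h⟩)) (not_le.2 hl')

/-- The map between sums of twists with given entries. -/
def matMap {s t : ℤ} (a b : ℕ) (E : Fin b → Fin a → (O n k s ⟶ O n k t)) :
    (∐ fun _ : Fin a => O n k s) ⟶ ∐ fun _ : Fin b => O n k t :=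
  Sigma.desc fun j => ∑ i, E i j ≫ Sigma.ι (fun _ : Fin b => O n k t) i

theorem ι_matMap_proj {s t : ℤ} {a b : ℕ} (E : Fin b → Fin a → (O n k s ⟶ O n k t)) (j : Fin a) (i : Fin b) :
    Sigma.ι (fun _ : Fin a => O n k s) j ≫ matMap a b E ≫ proj (fun _ : Fin b => O n k t) i = E i j := by
  classical
  rw [matMap, Sigma.ι_desc_assoc, Preadditive.sum_comp, Finset.sum_eq_single i
    (fun i' _ hi => by rw [Category.assoc, ι_proj_of_ne _ hi, comp_zero]) (fun h => absurd (Finset.mem_univ i) h),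
    Category.assoc, ι_proj_self, Category.comp_id]

end GrothLib.GenHom20
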