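import Groth.Agent.Lib.GenHom20.Test2
import Groth.Agent.Lib.GenHom20.Band

/-!
# General maps `O(-2)^a ⟶ O(-1)^b ⊕ O^c`
-/

set_option autoImplicit false
set_option backward.isDefEq.respectTransparency false
set_option linter.style.haveILetI false
set_option maxHeartbeats 1000000

universe u

open CategoryTheory CategoryTheory.Limits AlgebraicGeometry TopologicalSpace

noncomputable section

namespace GrothLib.GenHom20

variable {n : ℕ} {k : Type u} [Field k]

/-- A finite sum of copies of the structure module. -/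
abbrev free0 (n : ℕ) (k : Type u) [Field k] (b : ℕ) : (P n k).Modules :=
  ∐ fun _ : Fin b => Coh.structureModule (P n k)

/-- `O(-1)^b ⊕ O^c`. -/
abbrev target (n : ℕ) (k : Type u) [Field k] (b c : ℕ) : (P n k).Modules :=
  (∐ fun _ : Fin b => O n k (-1)) ⊞ free0 n k c

/-- `O(0)` is the structure module. -/
def zeroIso : O n k 0 ≅ Coh.structureModule (P n k) := (CMReg.nonempty_twist_zero (n := n) (k := k)).some

theorem finite_hom_target (a b c : ℕ) :
    Module.Finite k ((∐ fun _ : Fin a => O n k (-2)) ⟶ target n k b c) := by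
  have h0 : Module.Finite k (O n k (-2) ⟶ Coh.structureModule (P n k)) :=
    haveI := finite_hom_twist (n := n) (k := k) (-2) 0
    Module.Finite.equiv (Linear.homCongr k (Iso.refl _) zeroIso)
  exact finite_hom_into_biprod _ _ _
    (finite_hom_into_sigma _ _ fun _ => finite_hom_from_sigma _ _ fun _ => finite_hom_twist _ _)
    (finite_hom_into_sigma _ _ fun _ => finite_hom_from_sigma _ _ fun _ => h0)

theorem nonempty_basis_target (b c : ℕ) (x : P n k) :
    Nonempty (Module.Basis (Fin (b + c)) ((P n k).presheaf.stalk x) ((target n k b c).presheaf.stalk x)) := by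
  obtain ⟨β₁⟩ := nonempty_basis_sigma (n := n) (k := k) b (-1) x
  obtain ⟨β₀⟩ := nonempty_basis_sigma (n := n) (k := k) c 0 x
  let ψ : (∐ fun _ : Fin c => O n k 0) ⟶ free0 n k c := (Sigma.mapIso fun _ => zeroIso).hom
  let f₂ : (∐ fun _ : Fin c => O n k 0).presheaf.stalk x ≃ₗ[(P n k).presheaf.stalk x] (free0 n k c).presheaf.stalk x :=
    LinearEquiv.ofBijective (QCoh.stalkLin ψ x)
      (ConcreteCategory.bijective_of_isIso ((OX.stalk x).map ψ))
  let g := (QCoh.stalkLin (biprod.fst : target n k b c ⟶ _) x).prod (QCoh.stalkLin (biprod.snd : target n k b c ⟶ _) x)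
  refine ⟨((β₁.prod (β₀.map f₂)).map (LinearEquiv.ofBijective g ⟨fun e e' h => ?_, fun v => ?_⟩).symm).reindex
    finSumFinEquiv⟩
  · rw [← QCoh.biprod_stalk_total _ _ x e, ← QCoh.biprod_stalk_total _ _ x e']
    rw [show QCoh.stalkLin biprod.fst x e = QCoh.stalkLin biprod.fst x e' from congrArg Prod.fst h,
      show QCoh.stalkLin biprod.snd x e = QCoh.stalkLin biprod.snd x e' from congrArg Prod.snd h]
  · refine ⟨QCoh.stalkLin biprod.inl x v.1 + QCoh.stalkLin biprod.inr x v.2, Prod.ext ?_ ?_⟩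
    · show QCoh.stalkLin (biprod.fst : target n k b c ⟶ _) x _ = v.1
      rw [map_add, ← QCoh.stalkLin_comp, ← QCoh.stalkLin_comp, biprod.inl_fst, biprod.inr_fst, stalkLin_id,
        stalkLin_zero, add_zero]
    · show QCoh.stalkLin (biprod.snd : target n k b c ⟶ _) x _ = v.2
      rw [map_add, ← QCoh.stalkLin_comp, ← QCoh.stalkLin_comp, biprod.inl_snd, biprod.inr_snd, stalkLin_id,
        stalkLin_zero, zero_add]

theorem isFinLocFreeOfRank_target (b c : ℕ) : FlatMod.IsFinLocFreeOfRank (b + c) (target n k b c) := by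
  haveI : IsLocallyNoetherian (P n k) :=
    haveI := Chow.isProper_toSpec n k
    LocallyOfFiniteType.isLocallyNoetherian (CohB1.ProjSpace.toSpec n k)
  refine OmegaFree.isFinLocFreeOfRank_of_free_stalks (QCoh.isCoh_biprod' (CMReg.isCoh_sumTwist b (-1))
    (Euler.isCoh_of_isFinLocFree (OX.isFinLocFree_sigma _ fun _ =>
      Euler.isFinLocFree_of_isInvertible Euler.isInvertible_structure))) _ fun x => nonempty_basis_target b c x

/-- A matrix of maps into the target, by rows. -/
def blockMap (a b c : ℕ) (E₁ : Fin b → Fin a → (O n k (-2) ⟶ O n k (-1)))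
    (E₂ : Fin c → Fin a → (O n k (-2) ⟶ O n k 0)) : (∐ fun _ : Fin a => O n k (-2)) ⟶ target n k b c :=
  biprod.lift (matMap a b E₁) (matMap a c E₂ ≫ (Sigma.mapIso fun _ => zeroIso).hom)

theorem blockMap_fst {a b c : ℕ} (E₁ : Fin b → Fin a → (O n k (-2) ⟶ O n k (-1)))
    (E₂ : Fin c → Fin a → (O n k (-2) ⟶ O n k 0)) (j : Fin a) (i : Fin b) :
    Sigma.ι (fun _ : Fin a => O n k (-2)) j ≫ blockMap a b c E₁ E₂ ≫ biprod.fst ≫
      proj (fun _ : Fin b => O n k (-1)) i = E₁ i j := by
  rw [blockMap, biprod.lift_fst_assoc, ι_matMap_proj]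

theorem blockMap_snd {a b c : ℕ} (E₁ : Fin b → Fin a → (O n k (-2) ⟶ O n k (-1)))
    (E₂ : Fin c → Fin a → (O n k (-2) ⟶ O n k 0)) (j : Fin a) (i : Fin c) :
    Sigma.ι (fun _ : Fin a => O n k (-2)) j ≫ blockMap a b c E₁ E₂ ≫ biprod.snd ≫
      (Sigma.mapIso fun _ => zeroIso).inv ≫ proj (fun _ : Fin c => O n k 0) i = E₂ i j := by
  rw [blockMap, biprod.lift_snd_assoc, Category.assoc, Iso.hom_inv_id_assoc, ι_matMap_proj]

/-- General maps `O(-2)^a ⟶ O(-1)^b ⊕ O^c` are fibrewise injective when `a + n ≤ b + c`. -/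
theorem exists_poly_bundle (a b c : ℕ) (h : a + n ≤ b + c) :
    ∃ (m : ℕ) (co : ((∐ fun _ : Fin a => O n k (-2)) ⟶ target n k b c) ≃ₗ[k] (Fin m → k))
      (p : MvPolynomial (Fin m) k), p ≠ 0 ∧ ∀ φ, MvPolynomial.eval (co φ) p ≠ 0 →
        Mono φ ∧ FlatMod.IsFinLocFreeOfRank (b + c - a) (cokernel φ) := by
  haveI := finite_hom_target (n := n) (k := k) a b c
  let co := (Module.finBasis k ((∐ fun _ : Fin a => O n k (-2)) ⟶ target n k b c)).equivFun
  refine ⟨_, co, ?_⟩
  let φ₀ := blockMap a b c (fun i j => ent (-2) (-1) 1 (by norm_num) j i)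
    (fun i j => ent (n := n) (k := k) (-2) 0 2 (by norm_num) j (b + i))
  refine exists_poly_split (-2) (isFinLocFreeOfRank_target b c) co φ₀ fun x z hz => ?_
  obtain ⟨l, hl, hl'⟩ := exists_first_coord x
  refine residual_inj (fun _ : Fin a => O n k (-2)) x φ₀ (fun j => (j : ℕ)) (fun j => ?_) z hz
  by_cases hr : (j : ℕ) + l < b
  · refine ⟨_, biprod.fst ≫ proj (fun _ : Fin b => O n k (-1)) ⟨j + l, hr⟩, ?_, fun j' hj' => ?_⟩
    · rw [blockMap_fst]; exact bijective_ent _ (l := l) rfl hl
    · rw [blockMap_fst]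
      rcases lt_trichotomy (j' : ℕ) j with hlt | heq | hgt
      · exact .inl hlt
      · exact absurd (Fin.ext heq) hj'
      · exact .inr fun w => ent_mem one_ne_zero _ hl' (show (j : ℕ) + l < j' + l by omega) w
  · have hr2 : (j : ℕ) + l - b < c := by omega
    refine ⟨_, biprod.snd ≫ (Sigma.mapIso fun _ => zeroIso).inv ≫ proj (fun _ : Fin c => O n k 0) ⟨j + l - b, hr2⟩, ?_,
      fun j' hj' => ?_⟩
    · rw [blockMap_snd]; exact bijective_ent _ (l := l) (show b + ((j : ℕ) + l - b) = j + l by omega) hl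
    · rw [blockMap_snd]
      rcases lt_trichotomy (j' : ℕ) j with hlt | heq | hgt
      · exact .inl hlt
      · exact absurd (Fin.ext heq) hj'
      · exact .inr fun w => ent_mem two_ne_zero _ hl' (show b + ((j : ℕ) + l - b) < j' + l by omega) w

/-- General maps `O(-2)^a ⟶ O(-1)^b ⊕ O^c` with `b + n ≤ a ≤ b + c` are mono with the linear part epi. -/
theorem exists_poly_generated (a b c : ℕ) (h : a ≤ b + c) (h' : b + n ≤ a) :
    ∃ (m : ℕ) (co : ((∐ fun _ : Fin a => O n k (-2)) ⟶ target n k b c) ≃ₗ[k] (Fin m → k))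
      (p : MvPolynomial (Fin m) k), p ≠ 0 ∧ ∀ φ, MvPolynomial.eval (co φ) p ≠ 0 →
        Mono φ ∧ Epi (φ ≫ biprod.fst) := by
  haveI := finite_hom_target (n := n) (k := k) a b c
  let co := (Module.finBasis k ((∐ fun _ : Fin a => O n k (-2)) ⟶ target n k b c)).equivFun
  refine ⟨_, co, ?_⟩
  let φ₀ := blockMap a b c (fun i j => ent (n := n) (k := k) (-2) (-1) 1 (by norm_num) i j)
    (fun i j => ent (-2) 0 2 (by norm_num) (b + i) j)
  obtain ⟨p, hp, hp'⟩ := exists_poly_mono (-2) (FinCov.isFinLocFree_of_rank (isFinLocFreeOfRank_target b c)) co φ₀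
    fun z hz => by
      refine residual_inj (fun _ : Fin a => O n k (-2)) _ φ₀ (fun j => a - (j : ℕ)) (fun j => ?_) z hz
      by_cases hr : (j : ℕ) < b
      · refine ⟨_, biprod.fst ≫ proj (fun _ : Fin b => O n k (-1)) ⟨j, hr⟩, ?_, fun j' hj' => ?_⟩
        · rw [blockMap_fst]; exact bijective_ent _ (l := 0) rfl (X_notMem_generic 0)
        · rw [blockMap_fst]
          rcases lt_trichotomy (j' : ℕ) j with hlt | heq | hgt
          · exact .inr fun w => ent_out _ hlt w
          · exact absurd (Fin.ext heq) hj'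
          · exact .inl (show a - (j' : ℕ) < a - j by omega)
      · refine ⟨_, biprod.snd ≫ (Sigma.mapIso fun _ => zeroIso).inv ≫
          proj (fun _ : Fin c => O n k 0) ⟨j - b, by omega⟩, ?_, fun j' hj' => ?_⟩
        · rw [blockMap_snd]
          exact bijective_ent _ (l := 0) (show (j : ℕ) = b + ((j : ℕ) - b) + ((0 : Fin (n + 1)) : ℕ) by
            rw [Fin.val_zero]; omega) (X_notMem_generic 0)
        · rw [blockMap_snd]
          rcases lt_trichotomy (j' : ℕ) j with hlt | heq | hgt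
          · exact .inr fun w => ent_out _ (show (j' : ℕ) < b + ((j : ℕ) - b) by omega) w
          · exact absurd (Fin.ext heq) hj'
          · exact .inl (show a - (j' : ℕ) < a - j by omega)
  obtain ⟨q, hq, hq'⟩ := exists_poly_epi (CMReg.isCoh_sumTwist a (-2)) (-1) co
    (Linear.rightComp k (∐ fun _ : Fin a => O n k (-2)) (biprod.fst : target n k b c ⟶ _)) φ₀ fun x => by
      obtain ⟨l, hl, hl'⟩ := exists_first_coord x
      haveI := (finite_stalk (OX.isFinLocFree_sigma _ fun _ : Fin b => isFinLocFree_O (n := n) (k := k) (-1)) x).1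
      refine surjective_of_triangular (fun _ : Fin b => O n k (-1)) x (φ₀ ≫ biprod.fst) (fun i => (i : ℕ)) fun i => ?_
      refine ⟨_, Sigma.ι (fun _ : Fin a => O n k (-2)) ⟨i + l, by omega⟩, ?_, fun i' hi' => ?_⟩
      · simp only [Category.assoc]; rw [blockMap_fst]; exact bijective_ent _ (l := l) rfl hl
      · simp only [Category.assoc]; rw [blockMap_fst]
        rcases lt_trichotomy (i' : ℕ) i with hlt | heq | hgt
        · exact .inl hlt
        · exact absurd (Fin.ext heq) hi'
        · exact .inr fun w => ent_mem one_ne_zero _ hl' (show (i : ℕ) + l < i' + l by omega) w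
  exact exists_poly_and co hp hq hp' hq'

end GrothLib.GenHom20
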