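import Groth.Agent.Lib.GenHom20.Main
import Groth.Agent.Lib.AssPts.Restrict
import Groth.Agent.Lib.ExcP1.Regular
import Groth.Agent.Lib.DualTF27.Proj
import Groth.Agent.Lib.SerrePn27.DepthExt
import Groth.Agent.Lib.LinForms26.Forms
import Groth.Agent.S10829

/-!
# General maps `O(-2)^a ⟶ O(-1)^b ⊕ O^c` of corank one have pure cokernel
-/

set_option autoImplicit false
set_option backward.isDefEq.respectTransparency false
set_option linter.style.haveILetI false
set_option maxHeartbeats 1000000

universe u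

open CategoryTheory CategoryTheory.Limits AlgebraicGeometry TopologicalSpace
open CategoryTheory.Abelian (Ext)

noncomputable section

namespace GrothLib.GenHom20

variable {n : ℕ} {k : Type u} [Field k]

section Stalk

variable {A B : (P n k).Modules}

theorem exact_stalk_cokernel (φ : A ⟶ B) (x : P n k) :
    Function.Exact (QCoh.stalkLin φ x) (QCoh.stalkLin (cokernel.π φ) x) :=
  (ShortComplex.ShortExact.moduleCat_exact_iff_function_exact _).1
    ((OX.exact_iff (ShortComplex.mk φ (cokernel.π φ) (cokernel.condition φ))).1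
      (ShortComplex.exact_of_g_is_cokernel _ (cokernelIsCokernel _)) x)

/-- The cokernel of a split injection on stalks is free there. -/
theorem basis_cokernel_of_split {a b : ℕ} (φ : A ⟶ B) (x : P n k)
    (βA : Module.Basis (Fin a) ((P n k).presheaf.stalk x) (A.presheaf.stalk x))
    (βB : Module.Basis (Fin b) ((P n k).presheaf.stalk x) (B.presheaf.stalk x))
    (h : ∀ z, QCoh.stalkLin φ x z ∈ mTop ((P n k).presheaf.stalk x) _ → z ∈ mTop ((P n k).presheaf.stalk x) _) :
    Function.Injective (QCoh.stalkLin φ x) ∧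
      Nonempty (Module.Basis (Fin (b - a)) ((P n k).presheaf.stalk x) ((cokernel φ).presheaf.stalk x)) := by
  let R := (P n k).presheaf.stalk x
  haveI := Module.Finite.of_basis βA
  haveI := Module.Finite.of_basis βB
  haveI := Module.Free.of_basis βB
  obtain ⟨l, hl⟩ := exists_leftInverse_of_residual _ h
  have hinj : Function.Injective (QCoh.stalkLin φ x) :=
    Function.LeftInverse.injective (g := l) fun z => LinearMap.congr_fun hl z
  have hex := exact_stalk_cokernel φ x
  have hsurj := QCoh.stalkLin_surjective (cokernel.π φ) x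
  haveI : Module.Finite R ((cokernel φ).presheaf.stalk x) := Module.Finite.of_surjective _ hsurj
  obtain ⟨sec, hsec⟩ := ((hex.split_tfae hinj hsurj).out 1 0 rfl rfl).1 ⟨l, hl⟩
  haveI : Module.Projective R ((cokernel φ).presheaf.stalk x) := Module.Projective.of_split _ _ hsec
  haveI : Module.Free R ((cokernel φ).presheaf.stalk x) := Module.free_of_flat_of_isLocalRing
  haveI := Module.Free.of_basis βA
  obtain ⟨e, -⟩ := ((hex.split_tfae hinj hsurj).out 1 2 rfl rfl).1 ⟨l, hl⟩
  have hr := e.finrank_eq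
  rw [Module.finrank_prod, Module.finrank_eq_card_basis βA, Module.finrank_eq_card_basis βB, Fintype.card_fin,
    Fintype.card_fin] at hr
  exact ⟨hinj, ⟨Module.finBasisOfFinrankEq _ _ (by omega)⟩⟩

end Stalk

/-- Residual injectivity jointly with a fixed map is a polynomial condition. -/
theorem exists_poly_joint {a : ℕ} (s : ℤ) {B B' : (P n k).Modules} (hB : FlatMod.IsFinLocFree B)
    (hB' : FlatMod.IsFinLocFree B') (e : (∐ fun _ : Fin a => O n k s) ⟶ B') {m : ℕ}
    (c : ((∐ fun _ : Fin a => O n k s) ⟶ B) ≃ₗ[k] (Fin m → k)) (φ₀ : (∐ fun _ : Fin a => O n k s) ⟶ B)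
    (h₀ : ∀ (x : P n k) z, QCoh.stalkLin φ₀ x z ∈ mTop ((P n k).presheaf.stalk x) _ →
      QCoh.stalkLin e x z ∈ mTop ((P n k).presheaf.stalk x) _ → z ∈ mTop ((P n k).presheaf.stalk x) _) :
    ∃ p : MvPolynomial (Fin m) k, p ≠ 0 ∧ ∀ φ, MvPolynomial.eval (c φ) p ≠ 0 → ∀ (x : P n k) z,
      QCoh.stalkLin φ x z ∈ mTop ((P n k).presheaf.stalk x) _ →
      QCoh.stalkLin e x z ∈ mTop ((P n k).presheaf.stalk x) _ → z ∈ mTop ((P n k).presheaf.stalk x) _ := by
  haveI : IsProper (CohB1.ProjSpace.toSpec n k) := Chow.isProper_toSpec n k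
  haveI : IsLocallyNoetherian (P n k) := LocallyOfFiniteType.isLocallyNoetherian (CohB1.ProjSpace.toSpec n k)
  haveI : HasExt.{u} (P n k).Modules := ModSupp25.hasExt_mod (P n k).sheaf
  let A₀ : (P n k).Modules := ∐ fun _ : Fin a => O n k s
  let ψ₀ : A₀ ⟶ B ⊞ B' := biprod.lift φ₀ e
  have hAlf : FlatMod.IsFinLocFree A₀ := OX.isFinLocFree_sigma _ fun _ => isFinLocFree_O s
  have hproj : ∀ x, Function.Injective (QCoh.stalkLin ψ₀ x) ∧
      Module.Projective ((P n k).presheaf.stalk x) ((cokernel ψ₀).presheaf.stalk x) := by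
    intro x
    obtain ⟨_, _⟩ := finite_stalk hAlf x
    obtain ⟨_, _⟩ := finite_stalk hB x
    obtain ⟨_, _⟩ := finite_stalk hB' x
    let g := (QCoh.stalkLin (biprod.fst : B ⊞ B' ⟶ B) x).prod (QCoh.stalkLin (biprod.snd : B ⊞ B' ⟶ B') x)
    let eB : (B ⊞ B').presheaf.stalk x ≃ₗ[(P n k).presheaf.stalk x] (B.presheaf.stalk x × B'.presheaf.stalk x) :=
      LinearEquiv.ofBijective g ⟨fun u u' h => by
        rw [← QCoh.biprod_stalk_total _ _ x u, ← QCoh.biprod_stalk_total _ _ x u']
        rw [show QCoh.stalkLin biprod.fst x u = QCoh.stalkLin biprod.fst x u' from congrArg Prod.fst h,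
          show QCoh.stalkLin biprod.snd x u = QCoh.stalkLin biprod.snd x u' from congrArg Prod.snd h],
        fun v => ⟨QCoh.stalkLin biprod.inl x v.1 + QCoh.stalkLin biprod.inr x v.2, Prod.ext
          (by show QCoh.stalkLin (biprod.fst : B ⊞ B' ⟶ B) x _ = v.1
              rw [map_add, ← QCoh.stalkLin_comp, ← QCoh.stalkLin_comp, biprod.inl_fst, biprod.inr_fst, stalkLin_id,
                stalkLin_zero, add_zero])
          (by show QCoh.stalkLin (biprod.snd : B ⊞ B' ⟶ B') x _ = v.2
              rw [map_add, ← QCoh.stalkLin_comp, ← QCoh.stalkLin_comp, biprod.inl_snd, biprod.inr_snd, stalkLin_id,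
                stalkLin_zero, zero_add])⟩⟩
    haveI := Module.Finite.equiv eB.symm
    haveI := Module.Free.of_equiv eB.symm
    obtain ⟨l, hl⟩ := exists_leftInverse_of_residual (QCoh.stalkLin ψ₀ x) fun z hz => h₀ x z
      (by have := map_mem_mTop (QCoh.stalkLin (biprod.fst : B ⊞ B' ⟶ B) x) hz
          rwa [← QCoh.stalkLin_comp, biprod.lift_fst] at this)
      (by have := map_mem_mTop (QCoh.stalkLin (biprod.snd : B ⊞ B' ⟶ B') x) hz
          rwa [← QCoh.stalkLin_comp, biprod.lift_snd] at this)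
    have hinj : Function.Injective (QCoh.stalkLin ψ₀ x) :=
      Function.LeftInverse.injective (g := l) fun z => LinearMap.congr_fun hl z
    obtain ⟨sec, hsec⟩ := (((exact_stalk_cokernel ψ₀ x).split_tfae hinj
      (QCoh.stalkLin_surjective (cokernel.π ψ₀) x)).out 1 0 rfl rfl).1 ⟨l, hl⟩
    exact ⟨hinj, Module.Projective.of_split _ _ hsec⟩
  haveI : Mono ψ₀ := (OX.mono_iff _).2 fun x => (ModuleCat.mono_iff_injective _).2 (hproj x).1
  have hBB : Coh.IsCoh (B ⊞ B') := QCoh.isCoh_biprod' (Euler.isCoh_of_isFinLocFree hB) (Euler.isCoh_of_isFinLocFree hB')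
  obtain ⟨d₀, hd₀⟩ := subsingleton_ext_one
    (QCoh.isCoh_cokernel ψ₀ (Euler.isCoh_of_isFinLocFree hAlf) hBB) fun x => (hproj x).2
  let M : ℤ := max (d₀ : ℤ) s
  haveI := hd₀ M (le_max_left _ _)
  let K : Submodule k (A₀ ⟶ O n k M) := LinearMap.range (Linear.leftComp k (O n k M) e)
  let T : (A₀ ⟶ B) →ₗ[k] ((B ⟶ O n k M) →ₗ[k] ((A₀ ⟶ O n k M) ⧸ K)) :=
    (LinearMap.llcomp k _ _ _ K.mkQ) ∘ₗ Linear.comp A₀ B (O n k M)
  have hT₀ : Function.Surjective (T φ₀) := by
    intro η'
    obtain ⟨η, rfl⟩ := K.mkQ_surjective η'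
    have hS : (ShortComplex.mk ψ₀ (cokernel.π ψ₀) (cokernel.condition ψ₀)).ShortExact :=
      { exact := ShortComplex.exact_of_g_is_cokernel _ (cokernelIsCokernel _) }
    obtain ⟨y, hy⟩ := Ext.contravariant_sequence_exact₁ hS (O n k M) (Ext.mk₀ η) (n₁ := 1) (add_zero 1)
      (Subsingleton.elim _ _)
    obtain ⟨ψ, rfl⟩ := (Ext.mk₀_bijective (B ⊞ B') (O n k M)).2 y
    rw [Ext.mk₀_comp_mk₀] at hy
    have hη : ψ₀ ≫ ψ = η := (Ext.mk₀_bijective A₀ (O n k M)).1 hy
    refine ⟨biprod.inl ≫ ψ, (Submodule.Quotient.eq K).2 ⟨-(biprod.inr ≫ ψ), ?_⟩⟩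
    show e ≫ (-(biprod.inr ≫ ψ)) = φ₀ ≫ biprod.inl ≫ ψ - η
    rw [← hη, (show ψ₀ = φ₀ ≫ biprod.inl + e ≫ biprod.inr from biprod.lift_eq), Preadditive.add_comp,
      Preadditive.comp_neg, Category.assoc, Category.assoc]
    abel
  haveI : Module.Finite k (A₀ ⟶ O n k M) := finite_hom_from_sigma _ _ fun _ => finite_hom_twist s M
  obtain ⟨p, hp, hp'⟩ := exists_poly_surjective c T φ₀ hT₀
  refine ⟨p, fun h => hp (by rw [h, map_zero]), fun φ hφ x z hz hez => mem_mTop_of_proj _ x z fun j => ?_⟩
  obtain ⟨i, hi⟩ := exists_coord x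
  have hMs : M = ((M - s).toNat : ℤ) + s := by
    have : s ≤ M := le_max_right (d₀ : ℤ) s
    omega
  let η : A₀ ⟶ O n k M := proj _ j ≫ coordMul i (M - s).toNat s M hMs
  obtain ⟨ψ, hψ⟩ := hp' φ hφ (K.mkQ η)
  obtain ⟨χ, hχ⟩ := (Submodule.Quotient.eq K).1 hψ
  replace hχ : e ≫ χ = φ ≫ ψ - η := hχ
  refine mem_mTop_of_bijective _ (bijective_coordMul i (M - s).toNat hMs hi) ?_
  rw [← QCoh.stalkLin_comp]
  show QCoh.stalkLin η x z ∈ _
  rw [show η = φ ≫ ψ + -(e ≫ χ) by rw [hχ]; abel, QCoh.stalkLin_add, ← Preadditive.comp_neg,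
    QCoh.stalkLin_comp, QCoh.stalkLin_comp]
  exact Submodule.add_mem _ (map_mem_mTop _ hz) (map_mem_mTop _ hez)

/-- The only point with a field as local ring is the generic one. -/
theorem eq_genericPoint_of_isField' {S : Scheme.{u}} [IsIntegral S] {s : S} (h : IsField (S.presheaf.stalk s)) :
    s = genericPoint S := by
  obtain ⟨y, hy⟩ := (Scheme.range_fromSpecStalk (X := S) (x := s)).ge
    ((genericPoint_spec S).specializes (Set.mem_univ s) : genericPoint S ⤳ s)
  letI := h.toField
  rw [← hy, Subsingleton.elim (α := PrimeSpectrum (S.presheaf.stalk s)) y (IsLocalRing.closedPoint _),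
    Scheme.fromSpecStalk_closedPoint]

/-- A non-closed point specialises into every coordinate hyperplane. -/
theorem exists_specializes_mem (l : Fin (n + 1)) {x : P n k} (hx : ¬ IsClosed ({x} : Set (P n k))) :
    ∃ y : P n k, x ⤳ y ∧ MvPolynomial.X l ∈ y.asHomogeneousIdeal := by
  by_contra hc
  push Not at hc
  haveI : IsProper (CohB1.ProjSpace.toSpec n k) := Chow.isProper_toSpec n k
  let W : (P n k).Opens := Proj.basicOpen (CohB1.polyGrading n k) (MvPolynomial.X l)
  have hsub : closure ({x} : Set (P n k)) ⊆ W := fun z hz => hc z (specializes_iff_mem_closure.2 hz)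
  let I := Scheme.IdealSheafData.vanishingIdeal (⟨closure ({x} : Set (P n k)), isClosed_closure⟩ : Closeds (P n k))
  let ι := I.subschemeι
  haveI : IsIntegral I.subscheme := Snapper.isIntegral_pt x
  haveI : IsProper (ι ≫ CohB1.ProjSpace.toSpec n k) := inferInstance
  have htop : ι ⁻¹ᵁ W = ⊤ := top_le_iff.1 fun z _ => hsub ((Snapper.range_pt x).le (Set.mem_range_self z))
  have hA : IsAffineOpen (⊤ : I.subscheme.Opens) :=
    htop ▸ (Proj.isAffineOpen_basicOpen _ _ (Ample.ProjMap.X_mem l) Nat.one_pos).preimage ι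
  haveI : IsAffine ((⊤ : I.subscheme.Opens) : Scheme.{u}) := hA
  haveI : IsAffine I.subscheme := .of_isIso (Scheme.topIso _).inv
  refine Goodman.not_isAffine_of_not_isClosed k (ι ≫ CohB1.ProjSpace.toSpec n k) (fun hcl => hx ?_) inferInstance
  have hgp : ι (genericPoint I.subscheme) = x := (inseparable_iff_closure_eq.2
    ((QCoh.closure_singleton_eq_range ι).trans (Snapper.range_pt x))).eq
  have := ι.isClosedEmbedding.isClosedMap _ hcl
  rwa [Set.image_singleton, hgp] at this

/-- A cokernel of free modules over a regular local ring of dimension two has no socle. -/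
theorem eq_zero_of_socle {R : Type u} [CommRing R] [IsDomain R] [IsRegularLocalRing R] (hdim : ringKrullDim R = 2)
    {A B C : Type u} [AddCommGroup A] [Module R A] [Module.Free R A] [AddCommGroup B] [Module R B] [Module.Free R B]
    [AddCommGroup C] [Module R C] (f : A →ₗ[R] B) (g : B →ₗ[R] C) (hf : Function.Injective f)
    (hfg : Function.Exact f g) (hg : Function.Surjective g) (t : C)
    (ht : ∀ r ∈ IsLocalRing.maximalIdeal R, r • t = 0) : t = 0 := by
  obtain ⟨c, hc, hw⟩ := ExcP1.exists_regular_params R hdim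
  obtain ⟨v, rfl⟩ := hg t
  have hmem : ∀ i, c i ∈ IsLocalRing.maximalIdeal R := fun i => hc ▸ Ideal.subset_span ⟨i, rfl⟩
  have hkill : ∀ i, ∃ w, f w = c i • v := fun i =>
    (hfg _).1 (by rw [map_smul, ht _ (hmem i)])
  obtain ⟨u, hu⟩ := hkill 0
  obtain ⟨w, hw'⟩ := hkill 1
  rw [show List.ofFn c = [c 0, c 1] from List.ofFn_succ.trans (by simp [List.ofFn_succ])] at hw
  rw [RingTheory.Sequence.isWeaklyRegular_cons_iff, RingTheory.Sequence.isWeaklyRegular_cons_iff] at hw
  obtain ⟨h0, h1, -⟩ := hw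
  have e : c 1 • u = c 0 • w := hf (by rw [map_smul, map_smul, hu, hw', smul_comm])
  let β := Module.Free.chooseBasis R A
  have hdiv : ∀ i, ∃ q, β.repr u i = c 0 * q := fun i => by
    have hi : c 1 * β.repr u i = c 0 * β.repr w i := by
      simpa using congrArg (fun z => β.repr z i) e
    have := h1 (a₁ := Submodule.Quotient.mk (β.repr u i)) (a₂ := 0) (by
      show c 1 • Submodule.Quotient.mk (β.repr u i) = c 1 • 0
      rw [smul_zero, ← Submodule.Quotient.mk_smul, Submodule.Quotient.mk_eq_zero, smul_eq_mul, hi,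
        Submodule.mem_smul_pointwise_iff_exists]
      exact ⟨β.repr w i, trivial, rfl⟩)
    rw [Submodule.Quotient.mk_eq_zero, Submodule.mem_smul_pointwise_iff_exists] at this
    obtain ⟨q, -, hq⟩ := this
    exact ⟨q, hq.symm⟩
  choose q hq using hdiv
  let u' : A := β.repr.symm (Finsupp.onFinset (β.repr u).support (fun i => if i ∈ (β.repr u).support then q i else 0)
    fun i h => by by_contra hn; exact h (if_neg hn))
  have hu' : c 0 • u' = u := β.repr.injective (Finsupp.ext fun i => by
    rw [map_smul, LinearEquiv.apply_symm_apply, Finsupp.smul_apply, Finsupp.onFinset_apply, smul_eq_mul]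
    split
    · exact (hq i).symm
    · next hn => rw [mul_zero, Finsupp.notMem_support_iff.1 hn])
  have hv : c 0 • (f u' - v) = 0 := by rw [smul_sub, ← map_smul, hu', hu, sub_self]
  let βB := Module.Free.chooseBasis R B
  have : f u' - v = 0 := βB.repr.map_eq_zero_iff.1 (Finsupp.ext fun i => h0 (a₂ := 0) (by
    simpa using congrArg (fun z => βB.repr z i) hv))
  rw [← sub_eq_zero.1 this]
  exact (hfg _).2 ⟨u', rfl⟩

/-- Corank one: general maps have pure cokernel. -/
theorem exists_poly_pure (a b c : ℕ) (h : b + c = a + 1) :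
    ∃ (m : ℕ) (co : ((∐ fun _ : Fin a => O 2 k (-2)) ⟶ target 2 k b c) ≃ₗ[k] (Fin m → k))
      (p : MvPolynomial (Fin m) k), p ≠ 0 ∧ ∀ φ, MvPolynomial.eval (co φ) p ≠ 0 →
        Mono φ ∧ Coh.IsCoh (cokernel φ) ∧ ¬ IsZero (cokernel φ) ∧ ShStab.IsPure (P 2 k) (cokernel φ) 2 := by
  classical
  haveI : IsProper (CohB1.ProjSpace.toSpec 2 k) := Chow.isProper_toSpec 2 k
  haveI : IsLocallyNoetherian (P 2 k) := LocallyOfFiniteType.isLocallyNoetherian (CohB1.ProjSpace.toSpec 2 k)
  haveI := finite_hom_target (n := 2) (k := k) a b c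
  let co := (Module.finBasis k ((∐ fun _ : Fin a => O 2 k (-2)) ⟶ target 2 k b c)).equivFun
  refine ⟨_, co, ?_⟩
  let φ₀ := blockMap a b c (fun i j => ent (-2) (-1) 1 (by norm_num) j i)
    (fun i j => ent (n := 2) (k := k) (-2) 0 2 (by norm_num) j (b + i))
  let e : (∐ fun _ : Fin a => O 2 k (-2)) ⟶ (∐ fun _ : Fin a => O 2 k (-1)) :=
    matMap a a fun i j => if i = j then coordMul (2 : Fin (2 + 1)) 1 (-2) (-1) (by norm_num) else 0
  have hT := FinCov.isFinLocFree_of_rank (isFinLocFreeOfRank_target (n := 2) (k := k) b c)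
  have band : ∀ (x : P 2 k) (l : Fin (2 + 1)), (l : ℕ) < 2 → MvPolynomial.X l ∉ x.asHomogeneousIdeal →
      (∀ l' : Fin (2 + 1), l' < l → MvPolynomial.X l' ∈ x.asHomogeneousIdeal) → ∀ z,
      QCoh.stalkLin φ₀ x z ∈ mTop ((P 2 k).presheaf.stalk x) _ → z ∈ mTop ((P 2 k).presheaf.stalk x) _ := by
    intro x l hl2 hl hl' z hz
    refine residual_inj (fun _ : Fin a => O 2 k (-2)) x φ₀ (fun j => (j : ℕ)) (fun j => ?_) z hz
    by_cases hr : (j : ℕ) + l < b
    · refine ⟨_, biprod.fst ≫ proj (fun _ : Fin b => O 2 k (-1)) ⟨j + l, hr⟩, ?_, fun j' hj' => ?_⟩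
      · rw [blockMap_fst]; exact bijective_ent _ (l := l) rfl hl
      · rw [blockMap_fst]
        rcases lt_trichotomy (j' : ℕ) j with hlt | heq | hgt
        · exact .inl hlt
        · exact absurd (Fin.ext heq) hj'
        · exact .inr fun w => ent_mem one_ne_zero _ hl' (show (j : ℕ) + l < j' + l by omega) w
    · have hr2 : (j : ℕ) + l - b < c := by omega
      refine ⟨_, biprod.snd ≫ (Sigma.mapIso fun _ => zeroIso).inv ≫
        proj (fun _ : Fin c => O 2 k 0) ⟨j + l - b, hr2⟩, ?_, fun j' hj' => ?_⟩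
      · rw [blockMap_snd]; exact bijective_ent _ (l := l) (show b + ((j : ℕ) + l - b) = j + l by omega) hl
      · rw [blockMap_snd]
        rcases lt_trichotomy (j' : ℕ) j with hlt | heq | hgt
        · exact .inl hlt
        · exact absurd (Fin.ext heq) hj'
        · exact .inr fun w => ent_mem two_ne_zero _ hl' (show b + ((j : ℕ) + l - b) < j' + l by omega) w
  obtain ⟨p, hp, hp'⟩ := exists_poly_joint (-2) hT (OX.isFinLocFree_sigma _ fun _ : Fin a => isFinLocFree_O (-1)) e co φ₀
    fun x z hz hez => by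
      obtain ⟨l, hl, hl'⟩ := exists_first_coord x
      rcases lt_or_ge (l : ℕ) 2 with hl2 | hl2
      · exact band x l hl2 hl hl' z hz
      · have hl3 : l = 2 := by
          refine Fin.ext (show (l : ℕ) = 2 from ?_)
          have := l.isLt
          omega
        subst hl3
        refine residual_inj (fun _ : Fin a => O 2 k (-2)) x e (fun _ => 0) (fun j => ?_) z hez
        refine ⟨_, proj (fun _ : Fin a => O 2 k (-1)) j, ?_, fun j' hj' => .inr fun w => ?_⟩
        · rw [ι_matMap_proj, if_pos rfl]; exact bijective_coordMul _ 1 _ hl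
        · rw [ι_matMap_proj, if_neg (Ne.symm hj'), stalkLin_zero]; exact Submodule.zero_mem _
  obtain ⟨q, hq, hq'⟩ := exists_poly_mono (-2) hT co φ₀ fun z hz =>
    band _ 0 (by rw [Fin.val_zero]; norm_num) (X_notMem_generic 0) (fun l' h' => absurd h' (Fin.not_lt_zero _)) z hz
  obtain ⟨r, hr, hr'⟩ := exists_poly_and co hp hq hp' hq'
  refine ⟨r, hr, fun φ hφ => ?_⟩
  obtain ⟨hsplit, hmono⟩ := hr' φ hφ
  haveI := hmono
  let A₀ : (P 2 k).Modules := ∐ fun _ : Fin a => O 2 k (-2)
  have hA : Coh.IsCoh A₀ := CMReg.isCoh_sumTwist a (-2)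
  have hC : Coh.IsCoh (cokernel φ) := QCoh.isCoh_cokernel φ hA (Euler.isCoh_of_isFinLocFree hT)
  -- on the line the map splits
  have hline : ∀ y : P 2 k, MvPolynomial.X (2 : Fin (2 + 1)) ∈ y.asHomogeneousIdeal →
      Nonempty (Module.Basis (Fin (b + c - a)) ((P 2 k).presheaf.stalk y) ((cokernel φ).presheaf.stalk y)) := by
    intro y hy
    obtain ⟨βA⟩ := nonempty_basis_sigma (n := 2) (k := k) a (-2) y
    obtain ⟨βB⟩ := nonempty_basis_target (n := 2) (k := k) b c y
    refine (basis_cokernel_of_split φ y βA βB fun z hz => hsplit y z hz ?_).2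
    refine mem_mTop_of_proj _ y _ fun i => ?_
    rw [← QCoh.stalkLin_comp]
    rw [stalk_decomp (fun _ : Fin a => O 2 k (-2)) y z, map_sum]
    refine Submodule.sum_mem _ fun j _ => ?_
    rw [← QCoh.stalkLin_comp, ι_matMap_proj]
    split
    · exact coordMul_mem _ one_ne_zero _ hy _
    · rw [stalkLin_zero]; exact Submodule.zero_mem _
  -- stalks of the cokernel are free at non-closed points
  have hnc : ∀ x : P 2 k, ¬ IsClosed ({x} : Set (P 2 k)) →
      Nonempty (Module.Basis (Fin (b + c - a)) ((P 2 k).presheaf.stalk x) ((cokernel φ).presheaf.stalk x)) := by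
    intro x hx
    obtain ⟨y, hxy, hy⟩ := exists_specializes_mem (2 : Fin (2 + 1)) hx
    obtain ⟨β⟩ := hline y hy
    obtain ⟨D, f, hyD, hf⟩ := Euler.exists_frame_of_stalk_basis hC β
    exact Euler.stalk_basis_of_frame hf (hxy.mem_open D.2 hyD)
  have hη : ¬ IsClosed ({genericPoint (P 2 k)} : Set (P 2 k)) := fun hcl => by
    have h2 := SerrePn27.dim_stalk_closedPoint (genericPoint (P 2 k)) hcl
    have hK : IsField ((P 2 k).presheaf.stalk (genericPoint (P 2 k))) := Field.toIsField (P 2 k).functionField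
    rw [ringKrullDim_eq_zero_of_isField hK] at h2
    exact absurd h2 (by norm_num)
  refine ⟨hmono, hC, fun h0 => ?_, fun F ι hι hF hF0 => ?_⟩
  · obtain ⟨β⟩ := hnc _ hη
    haveI : Subsingleton ((cokernel φ).presheaf.stalk (genericPoint (P 2 k))) :=
      ModuleCat.isZero_iff_subsingleton.1 ((OX.isZero_iff _).1 h0 (genericPoint (P 2 k)))
    have hb : β ⟨0, by omega⟩ = 0 := Subsingleton.elim _ _
    exact β.ne_zero _ hb
  · haveI := hι
    have hgen : genericPoint (P 2 k) ∈ CohB1.support F := by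
      obtain ⟨x, hx⟩ : (CohB1.support F).Nonempty := by
        rw [Set.nonempty_iff_ne_empty]
        intro he
        refine hF0 ((OX.isZero_iff F).2 fun x => ModuleCat.isZero_iff_subsingleton.2 ?_)
        exact not_not.1 (fun hs => (Set.ext_iff.1 he x).1 hs)
      obtain ⟨y, hy, -⟩ := AssPts.exists_ass_specializes F hF hx
      by_contra hg
      -- the associated point is a closed point with a socle element
      have hass : IsAssociatedPrime (IsLocalRing.maximalIdeal ((P 2 k).presheaf.stalk y)) (F.presheaf.stalk y) := hy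
      obtain ⟨f, hf⟩ := (isAssociatedPrime_iff_exists_injective_linearMap _ _).1 hass |>.2
      let t := f (Submodule.Quotient.mk 1)
      have ht : ∀ r ∈ IsLocalRing.maximalIdeal ((P 2 k).presheaf.stalk y), r • t = 0 := fun r hr => by
        rw [← map_smul, ← Submodule.Quotient.mk_smul, smul_eq_mul, mul_one,
          (Submodule.Quotient.mk_eq_zero _).2 hr, map_zero]
      have ht0 : t ≠ 0 := fun h => by
        have := hf (h.trans (map_zero f).symm)
        rw [Submodule.Quotient.mk_eq_zero] at this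
        exact (IsLocalRing.maximalIdeal.isMaximal _).ne_top ((Ideal.eq_top_iff_one _).2 this)
      have hys : y ∈ CohB1.support F := AssPts.mem_support_of_isAssPoint F hy
      have hinj := QCoh.stalkLin_injective ι y
      refine ht0 (hinj (Eq.trans ?_ (map_zero _).symm))
      have htC : ∀ r ∈ IsLocalRing.maximalIdeal ((P 2 k).presheaf.stalk y), r • QCoh.stalkLin ι y t = 0 :=
        fun r hr => by rw [← map_smul, ht r hr, map_zero]
      by_cases hcl : IsClosed ({y} : Set (P 2 k))
      · haveI := DualTF27.isRegular_projSpace k 2 y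
        obtain ⟨βA⟩ := nonempty_basis_sigma (n := 2) (k := k) a (-2) y
        obtain ⟨βB⟩ := nonempty_basis_target (n := 2) (k := k) b c y
        haveI := Module.Free.of_basis βA
        haveI := Module.Free.of_basis βB
        exact eq_zero_of_socle (by exact_mod_cast SerrePn27.dim_stalk_closedPoint y hcl) _ _
          (QCoh.stalkLin_injective φ y) (exact_stalk_cokernel φ y) (QCoh.stalkLin_surjective (cokernel.π φ) y) _ htC
      · obtain ⟨β⟩ := hnc y hcl
        have hne : y ≠ genericPoint (P 2 k) := fun he => hg (he ▸ hys)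
        have hm : IsLocalRing.maximalIdeal ((P 2 k).presheaf.stalk y) ≠ ⊥ := fun hbot => hne (by
          refine eq_genericPoint_of_isField' ?_
          exact IsLocalRing.isField_iff_maximalIdeal_eq.2 hbot)
        obtain ⟨r, hr, hr0⟩ := Submodule.exists_mem_ne_zero_of_ne_bot hm
        refine β.repr.map_eq_zero_iff.1 (Finsupp.ext fun i => ?_)
        have h2 := congrArg (fun v => β.repr v i) (htC r hr)
        simp only [map_smul, map_zero, Finsupp.smul_apply, Finsupp.zero_apply, smul_eq_mul] at h2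
        exact (mul_eq_zero.1 h2).resolve_left hr0
    have huniv : CohB1.support F = Set.univ := Set.eq_univ_of_forall fun x =>
      (QCoh.isClosed_support_of_isCoh hF).closure_subset_iff.2 (Set.singleton_subset_iff.2 hgen)
        (by rw [genericPoint_closure]; trivial)
    show topologicalKrullDim (CohB1.support F) = _
    rw [huniv, IsHomeomorph.topologicalKrullDim_eq _ (Homeomorph.Set.univ (P 2 k)).isHomeomorph]
    exact Groth.Agent.S10829.result k 2

end GrothLib.GenHom20
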