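import Mathlib.LinearAlgebra.Determinant
import Mathlib.LinearAlgebra.Dual.Lemmas
import Mathlib.LinearAlgebra.Matrix.ToLin
import Mathlib.RingTheory.MvPolynomial.Basic
import Mathlib.LinearAlgebra.FiniteDimensional.Basic

/-!
# Nonvanishing of determinants as a polynomial condition in linear coordinates
-/

set_option autoImplicit false
set_option linter.style.haveILetI false

universe u v w

open MvPolynomial

namespace GrothLib.GenHom20

variable {k : Type u} [Field k] {V : Type v} [AddCommGroup V] [Module k V] {m : ℕ}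
  (c : V ≃ₗ[k] (Fin m → k))

/-- A nonzero value of a determinant depending linearly on a vector is detected by a polynomial over the ground field. -/
theorem exists_poly_det {K : Type w} [CommRing K] [Algebra k K] {ι : Type*} [Fintype ι] [DecidableEq ι]
    (T : V →ₗ[k] Matrix ι ι K) (v₀ : V) (h : (T v₀).det ≠ 0) :
    ∃ p : MvPolynomial (Fin m) k, eval (c v₀) p ≠ 0 ∧ ∀ v, eval (c v) p ≠ 0 → (T v).det ≠ 0 := by
  classical
  let M : Fin m → Matrix ι ι K := fun i => T (c.symm (Pi.single i 1))
  let Mx : Matrix ι ι (MvPolynomial (Fin m) K) := ∑ i, (X i : MvPolynomial (Fin m) K) • (M i).map C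
  have key : ∀ v, eval (fun i => algebraMap k K (c v i)) Mx.det = (T v).det := fun v => by
    rw [RingHom.map_det]
    congr 1
    have hv : T v = ∑ i, c v i • M i := by
      conv_lhs => rw [show v = c.symm (c v) from (c.symm_apply_apply v).symm, pi_eq_sum_univ' (c v)]
      simp only [map_sum, map_smul, M]
    rw [hv]
    ext a b
    simp [Mx, RingHom.mapMatrix_apply, Matrix.map_apply, Matrix.sum_apply, Matrix.smul_apply,
      Algebra.smul_def (R := k) (A := K)]
  obtain ⟨lam, hlam⟩ := Module.Projective.exists_dual_ne_zero k h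
  let p : MvPolynomial (Fin m) k := ∑ d ∈ Mx.det.support, monomial d (lam (coeff d Mx.det))
  have hp : ∀ v, eval (c v) p = lam (T v).det := fun v => by
    rw [← key]
    show eval (c v) (∑ d ∈ Mx.det.support, monomial d (lam (coeff d Mx.det))) = _
    rw [map_sum, eval_eq, map_sum]
    refine Finset.sum_congr rfl fun d _ => ?_
    rw [eval_monomial, Finsupp.prod]
    have : coeff d Mx.det * ∏ i ∈ d.support, algebraMap k K (c v i) ^ d i =
        (∏ i ∈ d.support, c v i ^ d i) • coeff d Mx.det := by
      rw [Algebra.smul_def, map_prod, mul_comm]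
      simp only [map_pow]
    rw [this, map_smul, smul_eq_mul, mul_comm]
  refine ⟨p, (hp v₀).symm ▸ hlam, fun v hv h0 => hv ?_⟩
  rw [hp, h0, map_zero]

/-- Surjectivity of a linear map depending linearly on a vector is a polynomial condition. -/
theorem exists_poly_surjective {W U : Type w} [AddCommGroup W] [Module k W] [AddCommGroup U] [Module k U]
    [FiniteDimensional k U] (T : V →ₗ[k] W →ₗ[k] U) (v₀ : V) (h : Function.Surjective (T v₀)) :
    ∃ p : MvPolynomial (Fin m) k, eval (c v₀) p ≠ 0 ∧ ∀ v, eval (c v) p ≠ 0 → Function.Surjective (T v) := by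
  classical
  obtain ⟨S, hS⟩ := (T v₀).exists_rightInverse_of_surjective (LinearMap.range_eq_top.2 h)
  let b := Module.finBasis k U
  let G : V →ₗ[k] Matrix (Fin (Module.finrank k U)) (Fin (Module.finrank k U)) k :=
    (LinearMap.toMatrix b b).toLinearMap ∘ₗ (LinearMap.lcomp k U S) ∘ₗ T
  have hG : ∀ v, G v = LinearMap.toMatrix b b (T v ∘ₗ S) := fun v => rfl
  obtain ⟨p, hp0, hp⟩ := exists_poly_det c G v₀ (by
    rw [hG, hS, LinearMap.toMatrix_id, Matrix.det_one]; exact one_ne_zero)
  refine ⟨p, hp0, fun v hv u => ?_⟩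
  have hd := hp v hv
  rw [hG, LinearMap.det_toMatrix] at hd
  obtain ⟨w, hw⟩ := (LinearMap.equivOfDetNeZero _ hd).surjective u
  exact ⟨S w, hw⟩

omit c in
/-- A finite family of such conditions is one such condition, as soon as none of them is empty. -/
theorem exists_poly_and {P Q : V → Prop} (c : V ≃ₗ[k] (Fin m → k)) {p q : MvPolynomial (Fin m) k} (hp : p ≠ 0) (hq : q ≠ 0)
    (hP : ∀ v, eval (c v) p ≠ 0 → P v) (hQ : ∀ v, eval (c v) q ≠ 0 → Q v) :
    ∃ r : MvPolynomial (Fin m) k, r ≠ 0 ∧ ∀ v, eval (c v) r ≠ 0 → P v ∧ Q v :=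
  ⟨p * q, mul_ne_zero hp hq, fun v hv => by
    rw [map_mul] at hv
    exact ⟨hP v (left_ne_zero_of_mul hv), hQ v (right_ne_zero_of_mul hv)⟩⟩

end GrothLib.GenHom20
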