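import Groth.Agent.Lib.QCoh.DevissageSummands
import Groth.Agent.Lib.OX.Exact
import Mathlib.RingTheory.LocalRing.Module
import Mathlib.LinearAlgebra.TensorProduct.Quotient

/-!
# Residual criteria for split injections and surjections on stalks
-/

set_option autoImplicit false
set_option backward.isDefEq.respectTransparency false
set_option linter.style.haveILetI false

universe u

open CategoryTheory CategoryTheory.Limits AlgebraicGeometry
open scoped TensorProduct

noncomputable section

namespace GrothLib.GenHom20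

section Local

variable {R : Type u} [CommRing R] [IsLocalRing R] {M N : Type u} [AddCommGroup M] [Module R M]
  [AddCommGroup N] [Module R N]

/-- Elements vanishing at the closed point. -/
abbrev mTop (R : Type u) [CommRing R] [IsLocalRing R] (M : Type u) [AddCommGroup M] [Module R M] : Submodule R M :=
  IsLocalRing.maximalIdeal R • (⊤ : Submodule R M)

theorem map_mem_mTop (l : M →ₗ[R] N) {z : M} (hz : z ∈ mTop R M) : l z ∈ mTop R N := by
  have h : Submodule.map l (mTop R M) ≤ mTop R N := by
    rw [Submodule.map_smul'']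
    exact Submodule.smul_mono le_rfl le_top
  exact h ⟨z, hz, rfl⟩

theorem mem_mTop_of_bijective (l : M →ₗ[R] N) (hl : Function.Bijective l) {z : M} (hz : l z ∈ mTop R N) :
    z ∈ mTop R M := by
  have h := map_mem_mTop (LinearEquiv.ofBijective l hl).symm.toLinearMap hz
  rwa [LinearEquiv.coe_toLinearMap, ← LinearEquiv.ofBijective_apply (f := l) (hf := hl), LinearEquiv.symm_apply_apply] at h

theorem mk_one_eq_zero_iff (z : M) :
    (1 : IsLocalRing.ResidueField R) ⊗ₜ[R] z = 0 ↔ z ∈ mTop R M := by
  rw [← Submodule.Quotient.mk_eq_zero (p := IsLocalRing.maximalIdeal R • (⊤ : Submodule R M))]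
  let e := TensorProduct.quotTensorEquivQuotSMul M (IsLocalRing.maximalIdeal R)
  rw [← e.map_eq_zero_iff]
  exact Iff.of_eq (congrArg (· = 0) (TensorProduct.quotTensorEquivQuotSMul_mk_one_tmul (IsLocalRing.maximalIdeal R) z))

/-- A map with residually trivial kernel into a finite free module is a split injection. -/
theorem exists_leftInverse_of_residual [Module.Finite R M] [Module.Finite R N] [Module.Free R N]
    (l : M →ₗ[R] N) (h : ∀ z, l z ∈ mTop R N → z ∈ mTop R M) : ∃ l', l' ∘ₗ l = LinearMap.id := by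
  refine (IsLocalRing.split_injective_iff_lTensor_residueField_injective l).2 ?_
  rw [injective_iff_map_eq_zero]
  intro w hw
  obtain ⟨z, rfl⟩ : ∃ z, (1 : IsLocalRing.ResidueField R) ⊗ₜ[R] z = w := by
    clear hw
    induction w with
    | zero => exact ⟨0, TensorProduct.tmul_zero _ _⟩
    | tmul c z =>
      obtain ⟨r, rfl⟩ := IsLocalRing.residue_surjective c
      exact ⟨r • z, by rw [TensorProduct.tmul_smul, TensorProduct.smul_tmul', Algebra.smul_def, mul_one]; rfl⟩
    | add a b ha hb =>
      obtain ⟨za, rfl⟩ := ha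
      obtain ⟨zb, rfl⟩ := hb
      exact ⟨za + zb, TensorProduct.tmul_add _ _ _⟩
  rw [LinearMap.lTensor_tmul, mk_one_eq_zero_iff] at hw
  exact (mk_one_eq_zero_iff z).2 (h z hw)

/-- A map surjective modulo the maximal ideal is surjective. -/
theorem surjective_of_residual [Module.Finite R N] (l : M →ₗ[R] N)
    (h : ∀ w, w ∈ LinearMap.range l ⊔ mTop R N) : Function.Surjective l := by
  rw [← LinearMap.range_eq_top, ← IsLocalRing.map_mkQ_eq_top]
  refine eq_top_iff.2 fun w _ => ?_
  obtain ⟨w, rfl⟩ := Submodule.mkQ_surjective _ w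
  obtain ⟨a, ha, b, hb, rfl⟩ := Submodule.mem_sup.1 (h w)
  exact ⟨a, ha, by rw [map_add, Submodule.mkQ_apply, Submodule.mkQ_apply, (Submodule.Quotient.mk_eq_zero _).2 hb, add_zero]⟩

end Local

section Stalk

variable {X : Scheme.{u}}

theorem stalkLin_zero {M N : X.Modules} (x : X) (e : M.presheaf.stalk x) :
    QCoh.stalkLin (0 : M ⟶ N) x e = 0 := by
  show ((OX.stalk x).map (0 : M ⟶ N)).hom e = 0
  rw [Functor.map_zero]; rfl

theorem stalkLin_sum {M N : X.Modules} {ι : Type} (s : Finset ι) (f : ι → (M ⟶ N)) (x : X)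
    (e : M.presheaf.stalk x) : QCoh.stalkLin (∑ i ∈ s, f i) x e = ∑ i ∈ s, QCoh.stalkLin (f i) x e := by
  classical
  induction s using Finset.induction_on with
  | empty => simpa using stalkLin_zero x e
  | insert a s ha ih => rw [Finset.sum_insert ha, Finset.sum_insert ha, QCoh.stalkLin_add, ih]

theorem stalkLin_id {M : X.Modules} (x : X) (e : M.presheaf.stalk x) : QCoh.stalkLin (𝟙 M) x e = e := by
  show ((OX.stalk x).map (𝟙 M)).hom e = e
  rw [CategoryTheory.Functor.map_id]; rfl

variable {a : ℕ} (Y : Fin a → X.Modules)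

/-- The projection of a finite coproduct onto a summand. -/
def proj (j : Fin a) : (∐ Y) ⟶ Y j :=
  Sigma.desc fun i => if h : i = j then eqToHom (congrArg Y h) else 0

@[reassoc]
theorem ι_proj_self (j : Fin a) : Sigma.ι Y j ≫ proj Y j = 𝟙 (Y j) := by
  simp [proj]

@[reassoc]
theorem ι_proj_of_ne {i j : Fin a} (h : i ≠ j) : Sigma.ι Y i ≫ proj Y j = 0 := by
  simp [proj, h]

theorem sum_proj_ι : ∑ j, proj Y j ≫ Sigma.ι Y j = 𝟙 (∐ Y) := by
  classical
  refine Sigma.hom_ext _ _ fun i => ?_
  rw [Preadditive.comp_sum, Category.comp_id,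
    Finset.sum_eq_single i (fun j _ hj => by rw [← Category.assoc, ι_proj_of_ne Y hj.symm, zero_comp])
      (fun h => absurd (Finset.mem_univ i) h), ι_proj_self_assoc]

theorem stalk_decomp (x : X) (z : (∐ Y).presheaf.stalk x) :
    z = ∑ j, QCoh.stalkLin (Sigma.ι Y j) x (QCoh.stalkLin (proj Y j) x z) := by
  conv_lhs => rw [← stalkLin_id x z, ← sum_proj_ι Y, stalkLin_sum]
  simp only [QCoh.stalkLin_comp]

theorem stalk_proj_ι (x : X) (i j : Fin a) (w : (Y i).presheaf.stalk x) (h : i ≠ j) :
    QCoh.stalkLin (proj Y j) x (QCoh.stalkLin (Sigma.ι Y i) x w) = 0 := by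
  rw [← QCoh.stalkLin_comp, ι_proj_of_ne Y h, stalkLin_zero]

theorem stalk_proj_ι_self (x : X) (i : Fin a) (w : (Y i).presheaf.stalk x) :
    QCoh.stalkLin (proj Y i) x (QCoh.stalkLin (Sigma.ι Y i) x w) = w := by
  rw [← QCoh.stalkLin_comp, ι_proj_self, stalkLin_id]

theorem mem_mTop_of_proj (x : X) (z : (∐ Y).presheaf.stalk x)
    (h : ∀ j, QCoh.stalkLin (proj Y j) x z ∈ mTop (X.presheaf.stalk x) _) :
    z ∈ mTop (X.presheaf.stalk x) _ := by
  rw [stalk_decomp Y x z]
  exact Submodule.sum_mem _ fun j _ => map_mem_mTop _ (h j)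

end Stalk

end GrothLib.GenHom20
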