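import Groth.Agent.Lib.GenHom20.Twist
import Groth.Agent.Lib.GenHom20.Residual
import Groth.Agent.Lib.GenHom20.Poly
import Groth.Agent.Lib.SerrePn27.HomTwist
import Groth.Agent.Lib.SerrePn27.ExtLarge
import Groth.Agent.Lib.SerrePn27.Asymp
import Groth.Agent.Lib.OmegaFree.Basic
import Groth.Agent.Lib.Euler.Scalar
import Groth.Agent.Lib.OX.LocFreeTensor

/-!
# General morphisms between sums of twists
-/

set_option autoImplicit false
set_option backward.isDefEq.respectTransparency false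
set_option linter.style.haveILetI false
set_option maxHeartbeats 2000000
set_option linter.unusedVariables false

universe u

open CategoryTheory CategoryTheory.Limits AlgebraicGeometry TopologicalSpace
open CategoryTheory.Abelian (Ext)

noncomputable section

namespace GrothLib.GenHom20

variable {n : ℕ} {k : Type u} [Field k]

/-- Projective space. -/
abbrev P (n : ℕ) (k : Type u) [Field k] : Scheme.{u} := CohB1.ProjSpace n k

/-- The twists. -/
abbrev O (n : ℕ) (k : Type u) [Field k] (d : ℤ) : (P n k).Modules := Twist.twistProjSpace n k d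

/-- Multiplication by the power of a coordinate. -/
def coordMul (l : Fin (n + 1)) (d : ℕ) (a b : ℤ) (h : b = d + a) : O n k a ⟶ O n k b :=
  mulN (CohB1.polyGrading n k) (MvPolynomial.X l ^ d)
    (Ample.ProjTwist.pow_mem (CohB1.polyGrading n k) (Ample.ProjMap.X_mem l) d) a b h

theorem exists_coord (x : P n k) : ∃ l : Fin (n + 1), MvPolynomial.X l ∉ x.asHomogeneousIdeal := by
  obtain ⟨i, hi⟩ := Opens.mem_iSup.mp ((Ample.ProjMap.iSup_basicOpen_X n k).ge (Opens.mem_top x))
  exact ⟨_, hi⟩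

theorem bijective_coordMul (l : Fin (n + 1)) (d : ℕ) {a b : ℤ} (h : b = d + a) {x : P n k}
    (hx : MvPolynomial.X l ∉ x.asHomogeneousIdeal) :
    Function.Bijective (QCoh.stalkLin (coordMul l d a b h) x) :=
  bijective_stalkLin_mulN _ _ h fun hm => hx (x.isPrime.mem_of_pow_mem d hm)

theorem coordMul_mem (l : Fin (n + 1)) {d : ℕ} (hd : d ≠ 0) {a b : ℤ} (h : b = d + a) {x : P n k}
    (hx : MvPolynomial.X l ∈ x.asHomogeneousIdeal) (z : (O n k a).presheaf.stalk x) :
    QCoh.stalkLin (coordMul l d a b h) x z ∈ mTop ((P n k).presheaf.stalk x) _ :=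
  stalkLin_mulN_mem _ _ h (Ideal.pow_mem_of_mem _ hx d (Nat.pos_of_ne_zero hd))
    (CMReg.exists_notMem x) z

theorem finite_hom_twist (a b : ℤ) : Module.Finite k (O n k a ⟶ O n k b) := by
  obtain ⟨e⟩ := SerrePn27.nonempty_hom_twist_equiv (n := n) (k := k) (a := a) (b := b) (sub_add_cancel b a)
  haveI := SerrePn27.finiteDimensional_HH_twist (n := n) (k := k) (b - a) 0
  exact Module.Finite.equiv e.symm

theorem finite_hom_into_sigma {r : ℕ} (M : (P n k).Modules) (Y : Fin r → (P n k).Modules)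
    (h : ∀ j, Module.Finite k (M ⟶ Y j)) : Module.Finite k (M ⟶ ∐ Y) := by
  refine Module.Finite.of_injective (LinearMap.pi fun j => Linear.rightComp k M (proj Y j)) fun f g e => ?_
  rw [← Category.comp_id f, ← Category.comp_id g, ← sum_proj_ι Y, Preadditive.comp_sum, Preadditive.comp_sum]
  refine Finset.sum_congr rfl fun j _ => ?_
  rw [← Category.assoc, ← Category.assoc, show f ≫ proj Y j = g ≫ proj Y j from congrFun e j]

theorem finite_hom_from_sigma {r : ℕ} (M : (P n k).Modules) (Y : Fin r → (P n k).Modules)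
    (h : ∀ j, Module.Finite k (Y j ⟶ M)) : Module.Finite k ((∐ Y) ⟶ M) := by
  refine Module.Finite.of_injective (LinearMap.pi fun j => Linear.leftComp k M (Sigma.ι Y j)) fun f g e => ?_
  exact Sigma.hom_ext _ _ fun j => congrFun e j

theorem finite_hom_into_biprod (M B₁ B₂ : (P n k).Modules) (h₁ : Module.Finite k (M ⟶ B₁))
    (h₂ : Module.Finite k (M ⟶ B₂)) : Module.Finite k (M ⟶ B₁ ⊞ B₂) :=
  Module.Finite.of_injective
    ((Linear.rightComp k M (biprod.fst : B₁ ⊞ B₂ ⟶ B₁)).prod (Linear.rightComp k M (biprod.snd : B₁ ⊞ B₂ ⟶ B₂)))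
    fun f g e => biprod.hom_ext _ _ (congrArg Prod.fst e) (congrArg Prod.snd e)

theorem isFinLocFree_O (d : ℤ) : FlatMod.IsFinLocFree (O n k d) :=
  Euler.isFinLocFree_of_isInvertible (CMReg.isInvertible_twist d)

theorem finite_stalk {M : (P n k).Modules} (hM : FlatMod.IsFinLocFree M) (x : P n k) :
    Module.Finite ((P n k).presheaf.stalk x) (M.presheaf.stalk x) ∧
      Module.Free ((P n k).presheaf.stalk x) (M.presheaf.stalk x) := by
  obtain ⟨U, m, e, hx, he⟩ := FinCov.exists_frame_nhd hM x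
  obtain ⟨b⟩ := Euler.stalk_basis_of_frame he hx
  exact ⟨Module.Finite.of_basis b, Module.Free.of_basis b⟩

theorem subsingleton_ext_one {C : (P n k).Modules} (hC : Coh.IsCoh C) [HasExt.{u} (P n k).Modules]
    (hfree : ∀ x : P n k, Module.Projective ((P n k).presheaf.stalk x) (C.presheaf.stalk x)) :
    ∃ d₀ : ℕ, ∀ d : ℤ, (d₀ : ℤ) ≤ d → Subsingleton (Ext C (O n k d) 1) := by
  haveI : HasInjectiveResolutions (ModSite.Mod (P n k).sheaf) := ExtTilde20.hasInjectiveResolutions_mod _
  haveI : ModSite.HasSheafHom (O := (P n k).sheaf) C := SheafCoh.hasSheafHom _ C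
  have hO : Coh.IsCoh (Coh.structureModule (P n k)) :=
    Euler.isCoh_of_isInvertible Euler.isInvertible_structure
  obtain ⟨d₀, h₀⟩ := SerrePn27.exists_ext_linearEquiv_extSh_twist (𝟙 (P n k))
    (Category.id_comp _) hC hO 1
  refine ⟨d₀, fun d hd => ?_⟩
  obtain ⟨-, ⟨e⟩⟩ := h₀ d hd
  let w : CohB1.tensorMod (Coh.structureModule (P n k)) (SerrePn27.Oi (𝟙 (P n k)) d) ≅ O n k d :=
    OX.tensorUnitLeftIso _ ≪≫ (Scheme.Modules.pullbackId (P n k)).app _
  haveI : IsProper (CohB1.ProjSpace.toSpec n k) := Chow.isProper_toSpec n k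
  haveI : IsLocallyNoetherian (P n k) := LocallyOfFiniteType.isLocallyNoetherian (CohB1.ProjSpace.toSpec n k)
  haveI : CompactSpace (P n k) := QuasiCompact.compactSpace_of_compactSpace (CohB1.ProjSpace.toSpec n k)
  haveI : IsNoetherian (P n k) := ⟨⟩
  have hz : IsZero ((ModSite.extSh (O := (P n k).sheaf) C 1).obj
      (CohB1.tensorMod (Coh.structureModule (P n k)) (SerrePn27.Oi (𝟙 (P n k)) d))) := by
    refine IsZero.of_iso ?_ ((ModSite.extSh (O := (P n k).sheaf) C 1).mapIso w)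
    refine (SerrePn27.isZero_extSh_iff_stalk hC (SerrePn27.rankOne_of_isInvertible (CMReg.isInvertible_twist d)) 1).2
      fun x => ?_
    haveI := hfree x
    haveI : Projective (ModuleCat.of ((P n k).presheaf.stalk x) (C.presheaf.stalk x)) :=
      (IsProjective.iff_projective _).1 inferInstance
    exact Ext.subsingleton_of_projective _ _ 0
  haveI := SerrePn27.subsingleton_HH_of_isZero (k := k) hz 0
  haveI h2 := e.toEquiv.subsingleton
  refine Function.Injective.subsingleton
    (f := fun v : Ext C (O n k d) 1 => v.comp (Ext.mk₀ w.inv) (add_zero 1)) fun v v' h => ?_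
  have h3 := congrArg (fun v : Ext C _ 1 => v.comp (Ext.mk₀ w.hom) (add_zero 1)) h
  simpa using h3

theorem nonempty_basis_sigma (a : ℕ) (s : ℤ) (x : P n k) :
    Nonempty (Module.Basis (Fin a) ((P n k).presheaf.stalk x)
      ((∐ fun _ : Fin a => O n k s).presheaf.stalk x)) := by
  let Y : Fin a → (P n k).Modules := fun _ => O n k s
  obtain ⟨β⟩ := OmegaFree.exists_basis_stalk
    (SerrePn27.rankOne_of_isInvertible (CMReg.isInvertible_twist (n := n) (k := k) s)) x
  let l : (O n k s).presheaf.stalk x ≃ₗ[(P n k).presheaf.stalk x] (P n k).presheaf.stalk x :=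
    β.equivFun ≪≫ₗ LinearEquiv.funUnique (Fin 1) _ _
  let g : (∐ Y).presheaf.stalk x →ₗ[(P n k).presheaf.stalk x] (Fin a → (P n k).presheaf.stalk x) :=
    LinearMap.pi fun j => l.toLinearMap ∘ₗ QCoh.stalkLin (proj Y j) x
  refine ⟨Module.Basis.ofEquivFun (LinearEquiv.ofBijective g ⟨(injective_iff_map_eq_zero _).2 fun z hz => ?_, fun v => ?_⟩)⟩
  · rw [stalk_decomp Y x z]
    refine Finset.sum_eq_zero fun j _ => ?_
    have : QCoh.stalkLin (proj Y j) x z = 0 := l.map_eq_zero_iff.1 (congrFun hz j)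
    rw [this, map_zero]
  · refine ⟨∑ i, QCoh.stalkLin (Sigma.ι Y i) x (l.symm (v i)), funext fun j => ?_⟩
    show l (QCoh.stalkLin (proj Y j) x (∑ i, QCoh.stalkLin (Sigma.ι Y i) x (l.symm (v i)))) = v j
    rw [map_sum, Finset.sum_eq_single j (fun i _ hi => stalk_proj_ι Y x i j _ hi)
      (fun h => absurd (Finset.mem_univ j) h)]
    exact (congrArg l (stalk_proj_ι_self Y x j _)).trans (l.apply_symm_apply _)

variable {A B : (P n k).Modules}

/-- The locus where a morphism of locally free modules splits contains a basic open of `Hom`. -/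
theorem exists_poly_split {a b : ℕ} (s : ℤ) (hB : FlatMod.IsFinLocFreeOfRank b B) {m : ℕ}
    (c : ((∐ fun _ : Fin a => O n k s) ⟶ B) ≃ₗ[k] (Fin m → k))
    (φ₀ : (∐ fun _ : Fin a => O n k s) ⟶ B)
    (h₀ : ∀ (x : P n k) z, QCoh.stalkLin φ₀ x z ∈ mTop ((P n k).presheaf.stalk x) _ →
      z ∈ mTop ((P n k).presheaf.stalk x) _) :
    ∃ p : MvPolynomial (Fin m) k, p ≠ 0 ∧ ∀ φ, MvPolynomial.eval (c φ) p ≠ 0 →
      Mono φ ∧ FlatMod.IsFinLocFreeOfRank (b - a) (cokernel φ) := by
  haveI : IsProper (CohB1.ProjSpace.toSpec n k) := Chow.isProper_toSpec n k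
  haveI : IsLocallyNoetherian (P n k) := LocallyOfFiniteType.isLocallyNoetherian (CohB1.ProjSpace.toSpec n k)
  haveI : HasExt.{u} (P n k).Modules := ModSupp25.hasExt_mod (P n k).sheaf
  let A₀ : (P n k).Modules := ∐ fun _ : Fin a => O n k s
  have hAlf : FlatMod.IsFinLocFree A₀ := OX.isFinLocFree_sigma _ fun _ => isFinLocFree_O s
  have hBlf : FlatMod.IsFinLocFree B := FinCov.isFinLocFree_of_rank hB
  have hAc : Coh.IsCoh A₀ := Euler.isCoh_of_isFinLocFree hAlf
  have hBc : Coh.IsCoh B := Euler.isCoh_of_isFinLocFree hBlf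
  -- split maps have locally free cokernels
  have split : ∀ φ : A₀ ⟶ B, (∀ x, ∃ l, l ∘ₗ QCoh.stalkLin φ x = LinearMap.id) →
      Mono φ ∧ ∀ x, Nonempty (Module.Basis (Fin (b - a)) ((P n k).presheaf.stalk x)
        ((cokernel φ).presheaf.stalk x)) := by
    intro φ hφ
    have hinj : ∀ x, Function.Injective (QCoh.stalkLin φ x) := fun x => by
      obtain ⟨l, hl⟩ := hφ x
      exact Function.LeftInverse.injective (g := l) fun z => LinearMap.congr_fun hl z
    refine ⟨(OX.mono_iff φ).2 fun x => (ModuleCat.mono_iff_injective _).2 (hinj x), fun x => ?_⟩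
    let R := (P n k).presheaf.stalk x
    obtain ⟨l, hl⟩ := hφ x
    obtain ⟨_, _⟩ := finite_stalk hAlf x
    obtain ⟨_, _⟩ := finite_stalk hBlf x
    have hex : Function.Exact (QCoh.stalkLin φ x) (QCoh.stalkLin (cokernel.π φ) x) :=
      (ShortComplex.ShortExact.moduleCat_exact_iff_function_exact _).1
        ((OX.exact_iff (ShortComplex.mk φ (cokernel.π φ) (cokernel.condition φ))).1
          (ShortComplex.exact_of_g_is_cokernel _ (cokernelIsCokernel _)) x)
    have hsurj := QCoh.stalkLin_surjective (cokernel.π φ) x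
    haveI : Module.Finite R ((cokernel φ).presheaf.stalk x) := Module.Finite.of_surjective _ hsurj
    obtain ⟨sec, hsec⟩ := ((hex.split_tfae (hinj x) hsurj).out 1 0 rfl rfl).1 ⟨l, hl⟩
    haveI : Module.Projective R ((cokernel φ).presheaf.stalk x) := Module.Projective.of_split _ _ hsec
    haveI : Module.Free R ((cokernel φ).presheaf.stalk x) := Module.free_of_flat_of_isLocalRing
    obtain ⟨βB⟩ := OmegaFree.exists_basis_stalk hB x
    obtain ⟨βA⟩ := nonempty_basis_sigma (n := n) (k := k) a s x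
    obtain ⟨e, -⟩ := ((hex.split_tfae (hinj x) hsurj).out 1 2 rfl rfl).1 ⟨l, hl⟩
    have hr := e.finrank_eq
    rw [Module.finrank_prod, Module.finrank_eq_card_basis βA, Module.finrank_eq_card_basis βB, Fintype.card_fin,
      Fintype.card_fin] at hr
    exact ⟨Module.finBasisOfFinrankEq _ _ (by omega)⟩
  have hs₀ : ∀ x, ∃ l, l ∘ₗ QCoh.stalkLin φ₀ x = LinearMap.id := fun x => by
    obtain ⟨_, _⟩ := finite_stalk hAlf x
    obtain ⟨_, _⟩ := finite_stalk hBlf x
    exact exists_leftInverse_of_residual _ (h₀ x)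
  obtain ⟨hmono₀, hbasis₀⟩ := split φ₀ hs₀
  haveI := hmono₀
  obtain ⟨d₀, hd₀⟩ := subsingleton_ext_one (C := cokernel φ₀) (QCoh.isCoh_cokernel φ₀ hAc hBc) fun x => by
    obtain ⟨β⟩ := hbasis₀ x
    exact Module.Projective.of_basis β
  let M : ℤ := max (d₀ : ℤ) s
  haveI := hd₀ M (le_max_left _ _)
  have hT₀ : Function.Surjective (Linear.comp A₀ B (O n k M) φ₀ : (B ⟶ O n k M) →ₗ[k] (A₀ ⟶ O n k M)) := by
    intro η
    have hS : (ShortComplex.mk φ₀ (cokernel.π φ₀) (cokernel.condition φ₀)).ShortExact :=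
      { exact := ShortComplex.exact_of_g_is_cokernel _ (cokernelIsCokernel _) }
    obtain ⟨y, hy⟩ := Ext.contravariant_sequence_exact₁ hS (O n k M) (Ext.mk₀ η) (n₁ := 1) (add_zero 1)
      (Subsingleton.elim _ _)
    obtain ⟨ψ, rfl⟩ := (Ext.mk₀_bijective B (O n k M)).2 y
    refine ⟨ψ, (Ext.mk₀_bijective A₀ (O n k M)).1 ?_⟩
    rw [← hy, Ext.mk₀_comp_mk₀]
    rfl
  haveI : Module.Finite k (A₀ ⟶ O n k M) := finite_hom_from_sigma _ _ fun _ => finite_hom_twist s M
  obtain ⟨p, hp, hp'⟩ := exists_poly_surjective c (Linear.comp A₀ B (O n k M)) φ₀ hT₀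
  refine ⟨p, fun h => hp (by rw [h, map_zero]), fun φ hφ => ?_⟩
  have hs : ∀ x, ∃ l, l ∘ₗ QCoh.stalkLin φ x = LinearMap.id := fun x => by
    obtain ⟨_, _⟩ := finite_stalk hAlf x
    obtain ⟨_, _⟩ := finite_stalk hBlf x
    refine exists_leftInverse_of_residual _ fun z hz => mem_mTop_of_proj _ x z fun j => ?_
    obtain ⟨i, hi⟩ := exists_coord x
    have hMs : M = ((M - s).toNat : ℤ) + s := by
      have : s ≤ M := le_max_right (d₀ : ℤ) s
      omega
    let η : A₀ ⟶ O n k M := proj _ j ≫ coordMul i (M - s).toNat s M hMs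
    obtain ⟨ψ, hψ⟩ := hp' φ hφ η
    replace hψ : φ ≫ ψ = η := hψ
    refine mem_mTop_of_bijective _ (bijective_coordMul i (M - s).toNat hMs hi) ?_
    rw [← QCoh.stalkLin_comp]
    show QCoh.stalkLin η x z ∈ _
    rw [← hψ, QCoh.stalkLin_comp]
    exact map_mem_mTop _ hz
  obtain ⟨hm, hb⟩ := split φ hs
  exact ⟨hm, OmegaFree.isFinLocFreeOfRank_of_free_stalks (QCoh.isCoh_cokernel φ hAc hBc) _ hb⟩

end GrothLib.GenHom20
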