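import Groth.Agent.Lib.GenHom20.Test
import Groth.Agent.Lib.CMReg.Linear

/-!
# General morphisms between sums of twists are epimorphisms or monomorphisms
-/

set_option autoImplicit false
set_option backward.isDefEq.respectTransparency false
set_option linter.style.haveILetI false
set_option linter.unusedVariables false
set_option maxHeartbeats 400000

universe u

open CategoryTheory CategoryTheory.Limits AlgebraicGeometry TopologicalSpace Opposite
open GrothLib.Cohom (hhMap)

noncomputable section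

namespace GrothLib.GenHom20

variable {n : ℕ} {k : Type u} [Field k]

theorem surjective_stalk_of_spanned {X : Scheme.{u}} {M N : X.Modules} (f : M ⟶ N) (hN : CMReg.Spanned N)
    (hf : Function.Surjective (f.app ⊤)) (x : X) : Function.Surjective (QCoh.stalkLin f x) := by
  intro z
  obtain ⟨O, hxO, m, rfl⟩ := TopCat.Presheaf.exists_germ_eq N.presheaf z
  obtain ⟨W, hW, hxW, hs⟩ := hN O m x hxO
  have key : ∀ w : Γ(N, W), w ∈ Submodule.span Γ(X, W) (Set.range fun s : Γ(N, ⊤) =>
      InvExt.mres N (le_top : W ≤ ⊤) s) → N.presheaf.germ W x hxW w ∈ LinearMap.range (QCoh.stalkLin f x) := by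
    intro w hw
    induction hw using Submodule.span_induction with
    | mem w hw =>
      obtain ⟨s, rfl⟩ := hw
      obtain ⟨s', rfl⟩ := hf s
      refine ⟨M.presheaf.germ ⊤ x trivial s', ?_⟩
      rw [QCoh.stalkLin_germ]
      exact (TopCat.Presheaf.germ_res_apply N.presheaf (homOfLE (le_top : W ≤ ⊤)) x hxW _).symm
    | zero => rw [map_zero]; exact Submodule.zero_mem _
    | add a b _ _ ha hb => rw [map_add]; exact Submodule.add_mem _ ha hb
    | smul c a _ ha => rw [WeakAss.germ_smul hxW]; exact Submodule.smul_mem _ _ ha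
  obtain ⟨y, hy⟩ := key _ hs
  exact ⟨y, hy.trans (TopCat.Presheaf.germ_res_apply N.presheaf (homOfLE hW) x hxW m)⟩

/-- The map on global sections, linearly in the morphism. -/
def hhLin {X : Scheme.{u}} [X.Over (Spec (CommRingCat.of k))] {A B : X.Modules} (G : X.Modules ⥤ X.Modules)
    [G.Additive] [G.Linear k] {V : Type u} [AddCommGroup V] [Module k V] (F : V →ₗ[k] (A ⟶ B)) :
    V →ₗ[k] (Coh.HH X (G.obj A) 0 →ₗ[k] Coh.HH X (G.obj B) 0) where
  toFun v := hhMap k (G.map (F v)) 0
  map_add' v w := by rw [map_add, G.map_add, SerrePn27.hhMap_add]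
  map_smul' a v := by rw [map_smul, G.map_smul, SerrePn27.hhMap_smul, RingHom.id_apply]

theorem surjective_hhLin {X : Scheme.{u}} [X.Over (Spec (CommRingCat.of k))] {A B : X.Modules}
    (G : X.Modules ⥤ X.Modules) [G.Additive] [G.Linear k] {V : Type u} [AddCommGroup V] [Module k V]
    (F : V →ₗ[k] (A ⟶ B)) (v : V) (K : X.Modules) (i : K ⟶ A) (w : i ≫ F v = 0)
    (hS : ((ShortComplex.mk i (F v) w).map G).ShortExact)
    (hK : SerrePn27.HAcyclic (G.obj K)) : Function.Surjective (hhMap k (G.map (F v)) 0) := by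
  have h := SerrePn27.surjective_hhMap_zero (k := k) (S := (ShortComplex.mk i (F v) w).map G) hS hK
  exact h

theorem surjective_app_top {X : Scheme.{u}} [X.Over (Spec (CommRingCat.of k))] {M N : X.Modules} (f : M ⟶ N)
    (h : Function.Surjective (hhMap k f 0)) : Function.Surjective (f.app ⊤) := fun s => by
  obtain ⟨y, hy⟩ := h ((ProjCoh.H0top N).symm s)
  refine ⟨ProjCoh.H0top M y, ?_⟩
  have h1 := congrArg (ProjCoh.H0top N) hy
  rw [AddEquiv.apply_symm_apply] at h1
  exact (ProjCoh.H0top_map ((QCoh.toAbFun X).map f) y).symm.trans h1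

/-- The locus where a morphism into a sum of twists is an epimorphism contains a basic open of `Hom`. -/
theorem exists_poly_epi {A : (P n k).Modules} (hA : Coh.IsCoh A) {b : ℕ} (t : ℤ) {V : Type u} [AddCommGroup V]
    [Module k V] {m : ℕ} (c : V ≃ₗ[k] (Fin m → k)) (F : V →ₗ[k] (A ⟶ ∐ fun _ : Fin b => O n k t)) (v₀ : V)
    (h₀ : ∀ x : P n k, Function.Surjective (QCoh.stalkLin (F v₀) x)) :
    ∃ p : MvPolynomial (Fin m) k, p ≠ 0 ∧ ∀ v, MvPolynomial.eval (c v) p ≠ 0 → Epi (F v) := by
  haveI : IsProper (CohB1.ProjSpace.toSpec n k) := Chow.isProper_toSpec n k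
  haveI : IsProper (P n k ↘ Spec (CommRingCat.of k)) := inferInstanceAs (IsProper (CohB1.ProjSpace.toSpec n k))
  haveI : IsLocallyNoetherian (P n k) := LocallyOfFiniteType.isLocallyNoetherian (CohB1.ProjSpace.toSpec n k)
  let B₀ : (P n k).Modules := ∐ fun _ : Fin b => O n k t
  have hB : Coh.IsCoh B₀ := CMReg.isCoh_sumTwist b t
  haveI : Epi (F v₀) := (OX.epi_iff _).2 fun x => (ModuleCat.epi_iff_surjective _).2 (h₀ x)
  have hK : Coh.IsCoh (kernel (F v₀)) := QCoh.isCoh_kernel _ hA hB
  obtain ⟨d₀, hd₀⟩ := SerrePn27.exists_twist_vanish (𝟙 (P n k)) (Category.id_comp _) hK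
  let M : ℤ := max (d₀ : ℤ) (-t)
  have hac : SerrePn27.HAcyclic (CMReg.Ft (kernel (F v₀)) M) :=
    (hd₀ M (le_max_left _ _)).of_iso (k := k)
      (Ample.LineData.tensorModMapIso (Iso.refl _) ((Scheme.Modules.pullbackId (P n k)).app _))
  obtain ⟨u⟩ := CMReg.nonempty_twist_add (n := n) (k := k) (add_neg_cancel M)
  obtain ⟨u'⟩ := CMReg.nonempty_twist_add (n := n) (k := k) (neg_add_cancel M)
  obtain ⟨e0⟩ := CMReg.nonempty_twist_zero (n := n) (k := k)
  let G : (P n k).Modules ⥤ (P n k).Modules := CMReg.ftFun M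
  haveI : G.IsEquivalence := CurveMult.isEquivalence_tF (X := P n k) (P := O n k M) (M := O n k (-M)) (u ≪≫ e0) (u' ≪≫ e0)
  haveI : G.Linear k := SerrePn27.linear_tF (k := k) (O n k M)
  let T := hhLin (k := k) G F
  have hS : (ShortComplex.mk (kernel.ι (F v₀)) (F v₀) (kernel.condition _)).ShortExact :=
    { exact := ShortComplex.exact_of_f_is_kernel _ (kernelIsKernel _) }
  have hT₀ : Function.Surjective (T v₀) :=
    surjective_hhLin (k := k) G F v₀ _ _ (kernel.condition (F v₀)) (CMReg.ft_shortExact hS M) hac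
  haveI : FiniteDimensional k (Coh.HH (P n k) (G.obj B₀) 0) := CMReg.finiteDimensional_Ft hB M 0
  obtain ⟨p, hp, hp'⟩ := exists_poly_surjective c T v₀ hT₀
  refine ⟨p, fun h => hp (by rw [h, map_zero]), fun v hv => G.epi_of_epi_map ?_⟩
  have htop : Function.Surjective ((G.map (F v)).app ⊤) := surjective_app_top (k := k) _ (hp' v hv)
  have hspan : CMReg.Spanned (G.obj B₀) := by
    have hr := CMReg.regular_sumTwist (n := n) (k := k) b (-t)
    rw [neg_neg] at hr
    exact CMReg.spanned_of_regular hB (-t) hr M (le_max_right _ _)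
  exact (OX.epi_iff _).2 fun x =>
    (ModuleCat.epi_iff_surjective _).2 (surjective_stalk_of_spanned _ hspan htop x)

theorem X_notMem_generic (l : Fin (n + 1)) :
    MvPolynomial.X l ∉ (genericPoint (P n k)).asHomogeneousIdeal := by
  let η : P n k := ⟨⊥, Ideal.isPrime_bot, fun hle => by
    have h1 : (MvPolynomial.X l : MvPolynomial (Fin (n + 1)) k) ∈
        (HomogeneousIdeal.irrelevant (CohB1.polyGrading n k)) :=
      HomogeneousIdeal.mem_irrelevant_of_mem _ Nat.one_pos (Ample.ProjMap.X_mem l)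
    exact MvPolynomial.X_ne_zero l (Ideal.mem_bot.1 (hle h1))⟩
  have hη : η ∈ Proj.basicOpen (CohB1.polyGrading n k) (MvPolynomial.X l) :=
    fun hm => MvPolynomial.X_ne_zero l (Ideal.mem_bot.1 hm)
  exact (genericPoint_specializes η).mem_open (Proj.basicOpen (CohB1.polyGrading n k) (MvPolynomial.X l)).2 hη

theorem algebraMap_stalk_smul {M N : (P n k).Modules} (c : k) (f : M ⟶ N) (x : P n k) (e : M.presheaf.stalk x) :
    QCoh.stalkLin (c • f) x e =
      ((P n k).presheaf.germ ⊤ x trivial).hom (Coh.toGlobal (P n k ↘ Spec (CommRingCat.of k)) c) • QCoh.stalkLin f x e := by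
  rw [KLin.smul_def, QCoh.stalkLin_comp]
  show QCoh.stalkLin f x (QCoh.stalkLin (Formal.smulModΓ M _) x e) = _
  exact (congrArg (QCoh.stalkLin f x) (Euler.stalkLin_smulMod M _ x e)).trans (map_smul _ _ _)

/-- The locus where a morphism of locally free modules is a monomorphism contains a basic open of `Hom`. -/
theorem exists_poly_mono {a : ℕ} (s : ℤ) {B : (P n k).Modules} (hB : FlatMod.IsFinLocFree B) {m : ℕ}
    (c : ((∐ fun _ : Fin a => O n k s) ⟶ B) ≃ₗ[k] (Fin m → k))
    (φ₀ : (∐ fun _ : Fin a => O n k s) ⟶ B)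
    (h₀ : ∀ z, QCoh.stalkLin φ₀ (genericPoint (P n k)) z ∈ mTop ((P n k).presheaf.stalk (genericPoint (P n k))) _ →
      z ∈ mTop ((P n k).presheaf.stalk (genericPoint (P n k))) _) :
    ∃ p : MvPolynomial (Fin m) k, p ≠ 0 ∧ ∀ φ, MvPolynomial.eval (c φ) p ≠ 0 → Mono φ := by
  classical
  set η := genericPoint (P n k) with hη
  let A₀ : (P n k).Modules := ∐ fun _ : Fin a => O n k s
  let R := (P n k).presheaf.stalk η
  letI : Algebra k R :=
    (((P n k).presheaf.germ ⊤ η trivial).hom.comp (Coh.toGlobal (P n k ↘ Spec (CommRingCat.of k)))).toAlgebra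
  haveI : IsDomain R := inferInstance
  have hA : FlatMod.IsFinLocFree A₀ := OX.isFinLocFree_sigma _ fun _ => isFinLocFree_O s
  obtain ⟨_, _⟩ := finite_stalk hA η
  obtain ⟨_, _⟩ := finite_stalk hB η
  obtain ⟨r₀, hr₀⟩ := exists_leftInverse_of_residual _ h₀
  let β := Module.Free.chooseBasis R (A₀.presheaf.stalk η)
  haveI : Fintype (Module.Free.ChooseBasisIndex R (A₀.presheaf.stalk η)) := inferInstance
  let T : (A₀ ⟶ B) →ₗ[k] Matrix (Module.Free.ChooseBasisIndex R (A₀.presheaf.stalk η))
      (Module.Free.ChooseBasisIndex R (A₀.presheaf.stalk η)) R :=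
    { toFun := fun φ => LinearMap.toMatrix β β (r₀ ∘ₗ QCoh.stalkLin φ η)
      map_add' := fun φ ψ => by
        rw [← map_add]
        congr 1
        exact LinearMap.ext fun z => by
          rw [LinearMap.comp_apply, QCoh.stalkLin_add, map_add]; rfl
      map_smul' := fun a φ => by
        rw [RingHom.id_apply]
        ext i j
        rw [Matrix.smul_apply, LinearMap.toMatrix_apply, LinearMap.toMatrix_apply, LinearMap.comp_apply,
          LinearMap.comp_apply, algebraMap_stalk_smul, map_smul, map_smul, Finsupp.smul_apply, smul_eq_mul,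
          Algebra.smul_def]
        rfl }
  obtain ⟨p, hp, hp'⟩ := exists_poly_det c T φ₀ (by
    show (LinearMap.toMatrix β β (r₀ ∘ₗ QCoh.stalkLin φ₀ η)).det ≠ 0
    rw [hr₀, LinearMap.toMatrix_id, Matrix.det_one]; exact one_ne_zero)
  refine ⟨p, fun h => hp (by rw [h, map_zero]), fun φ hφ => ?_⟩
  have hd := hp' φ hφ
  rw [show T φ = LinearMap.toMatrix β β (r₀ ∘ₗ QCoh.stalkLin φ η) from rfl] at hd
  have hinj : ∀ z, QCoh.stalkLin φ η z = 0 → z = 0 := fun z hz => by
    refine β.repr.map_eq_zero_iff.1 (Finsupp.ext fun i => ?_)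
    have h1 : (LinearMap.toMatrix β β (r₀ ∘ₗ QCoh.stalkLin φ η)).mulVec (β.repr z) = 0 := by
      rw [LinearMap.toMatrix_mulVec_repr, LinearMap.comp_apply, hz, map_zero, map_zero]
      rfl
    exact congrFun (Matrix.eq_zero_of_mulVec_eq_zero hd h1) i
  refine Preadditive.mono_of_kernel_zero ?_
  refine SerrePn27.hom_eq_zero_of_stalk hA (kernel.ι φ) fun v => hinj _ ?_
  rw [← QCoh.stalkLin_comp, kernel.condition, stalkLin_zero]

end GrothLib.GenHom20
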