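import Groth.Agent.Lib.GrTilde.Mul
import Groth.Agent.Lib.QCoh.GenericPoint
import Groth.Agent.Lib.Euler.Rank
import Groth.Agent.Lib.WeakAss.Basic

/-!
# Multiplication by a form between twisting sheaves
-/

set_option autoImplicit false
set_option backward.isDefEq.respectTransparency false
set_option linter.style.haveILetI false
set_option maxHeartbeats 1600000

universe u

open AlgebraicGeometry CategoryTheory TopologicalSpace Opposite
open GrothLib.InvExt (mres)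
open GrothLib.Ample.ProjTwist (ev evT evT_ext evT_smul evT_mres)

noncomputable section

namespace GrothLib.GenHom20

variable {R A : Type u} [CommRing R] [CommRing A] [Algebra R A] {𝒜 : ℕ → Submodule R A} [GradedAlgebra 𝒜]

/-- Multiplication by the fraction `P / Q` on sections of a twist. -/
def mulFrac {a b : ℤ} {p q : ℕ} (P Q : A) (hP : P ∈ 𝒜 p) (hQ : Q ∈ 𝒜 q) (h : (q : ℤ) + b = p + a)
    {V : (Proj 𝒜).Opens} (nin : ∀ y : V, Q ∉ y.1.asHomogeneousIdeal)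
    (m : Γ(Twist.twist 𝒜 a, V)) : Γ(Twist.twist 𝒜 b, V) :=
  ⟨fun y => ⟨Localization.mk P ⟨Q, nin y⟩ * evT y m, by
      obtain ⟨U, hU, iU, i, j, ⟨c, hc⟩, ⟨s, hs⟩, ninU, hd, hw⟩ := (show Twist.sectN a (op V) from m).2 y
      have e : evT y m = Localization.mk c ⟨s, ninU ⟨y.1, hU⟩⟩ := hw ⟨y.1, hU⟩
      rw [e, Localization.mk_mul]
      replace hd : (i : ℤ) = j + a ∨ c = 0 := hd
      rcases hd with hd | hd
      · exact Submodule.subset_span ⟨p + i, q + j, ⟨P * c, SetLike.mul_mem_graded hP hc⟩,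
          ⟨Q * s, SetLike.mul_mem_graded hQ hs⟩,
          fun hh => (y.1.isPrime.mem_or_mem hh).elim (nin y) (ninU ⟨y.1, hU⟩), by push_cast; omega, rfl⟩
      · rw [hd, mul_zero, Localization.mk_zero]; exact zero_mem _⟩,
    fun y => by
      obtain ⟨U, hU, iU, i, j, ⟨c, hc⟩, ⟨s, hs⟩, ninU, hd, hw⟩ := (show Twist.sectN a (op V) from m).2 y
      replace hd : (i : ℤ) = j + a ∨ c = 0 := hd
      have hnin : ∀ z : U, Q * s ∉ z.1.asHomogeneousIdeal := fun z hh =>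
        (z.1.isPrime.mem_or_mem hh).elim (nin ⟨z.1, leOfHom iU z.2⟩) (ninU z)
      refine ⟨U, hU, iU, p + i, q + j, ⟨P * c, SetLike.mul_mem_graded hP hc⟩,
        ⟨Q * s, SetLike.mul_mem_graded hQ hs⟩, hnin, ?_, fun z => ?_⟩
      · rcases hd with hd | hd
        · exact Or.inl (by push_cast; omega)
        · exact Or.inr (show P * c = 0 by rw [hd, mul_zero])
      · refine (congrArg (Localization.mk P ⟨Q, nin ⟨z.1, leOfHom iU z.2⟩⟩ * ·) (hw z)).trans ?_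
        exact Localization.mk_mul _ _ _ _⟩

theorem evT_mulFrac {a b : ℤ} {p q : ℕ} (P Q : A) (hP : P ∈ 𝒜 p) (hQ : Q ∈ 𝒜 q) (h : (q : ℤ) + b = p + a)
    {V : (Proj 𝒜).Opens} (nin : ∀ y : V, Q ∉ y.1.asHomogeneousIdeal)
    (m : Γ(Twist.twist 𝒜 a, V)) (y : V) :
    evT y (mulFrac P Q hP hQ h nin m) = Localization.mk P ⟨Q, nin y⟩ * evT y m := rfl

theorem evT_add {n : ℤ} {V : (Proj 𝒜).Opens} (m m' : Γ(Twist.twist 𝒜 n, V)) (y : V) :
    evT y (m + m') = evT y m + evT y m' := rfl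

theorem evT_zero {n : ℤ} {V : (Proj 𝒜).Opens} (y : V) : evT y (0 : Γ(Twist.twist 𝒜 n, V)) = 0 := rfl

theorem one_notMem {V : (Proj 𝒜).Opens} (y : V) : (1 : A) ∉ y.1.asHomogeneousIdeal :=
  fun h => y.1.isPrime.ne_top ((Ideal.eq_top_iff_one _).mpr h)

/-- Multiplication by a form of degree `e`, on sections. -/
def mulApp {a b : ℤ} {e : ℕ} (f : A) (hf : f ∈ 𝒜 e) (h : b = e + a) (V : (Proj 𝒜).Opens) :
    Γ(Twist.twist 𝒜 a, V) →+ Γ(Twist.twist 𝒜 b, V) where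
  toFun m := mulFrac f 1 hf SetLike.GradedOne.one_mem (by simpa using h) one_notMem m
  map_zero' := evT_ext fun y => by rw [evT_mulFrac, evT_zero, evT_zero, mul_zero]
  map_add' m m' := evT_ext fun y => by rw [evT_mulFrac, evT_add, evT_add, evT_mulFrac, evT_mulFrac, mul_add]

theorem evT_mulApp {a b : ℤ} {e : ℕ} (f : A) (hf : f ∈ 𝒜 e) (h : b = e + a) {V : (Proj 𝒜).Opens}
    (m : Γ(Twist.twist 𝒜 a, V)) (y : V) :
    evT y (mulApp f hf h V m) = Localization.mk f ⟨1, one_notMem y⟩ * evT y m := rfl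

variable (𝒜) in
/-- Multiplication by a form of degree `e` as a morphism of twists. -/
def mulN {e : ℕ} (f : A) (hf : f ∈ 𝒜 e) (a b : ℤ) (h : b = e + a) :
    Twist.twist 𝒜 a ⟶ Twist.twist 𝒜 b :=
  ⟨PresheafOfModules.homMk
    { app := fun U => AddCommGrpCat.ofHom (mulApp f hf h U.unop)
      naturality := fun _ _ _ => rfl }
    fun U (r : Γ(Proj 𝒜, U.unop)) (m : Γ(Twist.twist 𝒜 a, U.unop)) =>
      show mulApp f hf h U.unop (r • m) = r • mulApp f hf h U.unop m from evT_ext fun y => by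
        rw [evT_mulApp, evT_smul, evT_smul, evT_mulApp]
        ring⟩

theorem evT_mulN_app {e : ℕ} (f : A) (hf : f ∈ 𝒜 e) {a b : ℤ} (h : b = e + a) {V : (Proj 𝒜).Opens}
    (m : Γ(Twist.twist 𝒜 a, V)) (y : V) :
    evT y ((mulN 𝒜 f hf a b h).app V m) = algebraMap A _ f * evT y m := by
  rw [← Localization.mk_one_eq_algebraMap]
  rfl

/-- Off the zero locus of the form, multiplication by it is bijective on stalks. -/
theorem bijective_stalkLin_mulN {e : ℕ} (f : A) (hf : f ∈ 𝒜 e) {a b : ℤ} (h : b = e + a) {x : Proj 𝒜}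
    (hx : f ∉ x.asHomogeneousIdeal) : Function.Bijective (QCoh.stalkLin (mulN 𝒜 f hf a b h) x) := by
  have key : ∀ (V : (Proj 𝒜).Opens) (hV : V ≤ Proj.basicOpen 𝒜 f) (y : V),
      Localization.mk (1 : A) ⟨f, hV y.2⟩ * algebraMap A (Twist.Loc 𝒜 y.1) f = 1 := fun V hV y => by
    rw [← Localization.mk_one_eq_algebraMap, Localization.mk_mul, one_mul, mul_one]
    exact Localization.mk_self (⟨f, hV y.2⟩ : y.1.asHomogeneousIdeal.toIdeal.primeCompl)
  constructor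
  · rw [injective_iff_map_eq_zero]
    intro z hz
    obtain ⟨U, hxU, m, rfl⟩ := TopCat.Presheaf.exists_germ_eq (Twist.twist 𝒜 a).presheaf z
    rw [QCoh.stalkLin_germ] at hz
    rw [← map_zero ((Twist.twist 𝒜 b).presheaf.germ U x hxU).hom] at hz
    obtain ⟨W, hxW, i₁, i₂, hW⟩ := TopCat.Presheaf.germ_eq _ _ hxU hxU _ _ hz
    rw [map_zero] at hW
    let W' : (Proj 𝒜).Opens := W ⊓ Proj.basicOpen 𝒜 f
    have hxW' : x ∈ W' := ⟨hxW, hx⟩
    have h0 : (Twist.twist 𝒜 a).presheaf.map (homOfLE (inf_le_left.trans (leOfHom i₁) : W' ≤ U)).op m = 0 := by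
      refine evT_ext fun y => ?_
      have e1 : evT (⟨y.1, y.2.1⟩ : W) ((Twist.twist 𝒜 b).presheaf.map i₁.op ((mulN 𝒜 f hf a b h).app U m)) =
          evT (⟨y.1, y.2.1⟩ : W) (0 : Γ(Twist.twist 𝒜 b, W)) := congrArg _ hW
      rw [evT_zero] at e1
      have e2 : algebraMap A (Twist.Loc 𝒜 y.1) f * evT ⟨y.1, leOfHom i₁ y.2.1⟩ m = 0 :=
        (evT_mulN_app f hf h m ⟨y.1, leOfHom i₁ y.2.1⟩).symm.trans e1
      show evT ⟨y.1, leOfHom i₁ y.2.1⟩ m = 0
      have := congrArg (Localization.mk (1 : A) ⟨f, y.2.2⟩ * ·) e2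
      simp only [← mul_assoc, key W' inf_le_right y, one_mul, mul_zero] at this
      exact this
    rw [← TopCat.Presheaf.germ_res_apply (Twist.twist 𝒜 a).presheaf (homOfLE (inf_le_left.trans (leOfHom i₁) : W' ≤ U))
      x hxW' m, h0, map_zero]
  · intro z
    obtain ⟨U, hxU, m, rfl⟩ := TopCat.Presheaf.exists_germ_eq (Twist.twist 𝒜 b).presheaf z
    let W' : (Proj 𝒜).Opens := U ⊓ Proj.basicOpen 𝒜 f
    have hxW' : x ∈ W' := ⟨hxU, hx⟩
    let m₀ := mulFrac (a := b) (b := a) (V := W') (1 : A) f SetLike.GradedOne.one_mem hf (by simp [h])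
      (fun y => y.2.2) ((Twist.twist 𝒜 b).presheaf.map (homOfLE (inf_le_left : W' ≤ U)).op m)
    refine ⟨(Twist.twist 𝒜 a).presheaf.germ W' x hxW' m₀, ?_⟩
    rw [QCoh.stalkLin_germ, ← TopCat.Presheaf.germ_res_apply (Twist.twist 𝒜 b).presheaf
      (homOfLE (inf_le_left : W' ≤ U)) x hxW' m]
    congr 1
    refine evT_ext fun y => ?_
    rw [evT_mulN_app, evT_mulFrac, ← mul_assoc, mul_comm (algebraMap A _ f), key W' inf_le_right y, one_mul]

/-- At a point of the zero locus, a form multiplies a twist into the maximal ideal. -/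
theorem stalkLin_mulN_mem {e : ℕ} (f : A) (hf : f ∈ 𝒜 e) {a b : ℤ} (h : b = e + a) {x : Proj 𝒜}
    (hx : f ∈ x.asHomogeneousIdeal) (h1 : ∃ g : A, g ∈ 𝒜 1 ∧ g ∉ x.asHomogeneousIdeal)
    (z : (Twist.twist 𝒜 a).presheaf.stalk x) :
    QCoh.stalkLin (mulN 𝒜 f hf a b h) x z ∈
      IsLocalRing.maximalIdeal ((Proj 𝒜).presheaf.stalk x) •
        (⊤ : Submodule ((Proj 𝒜).presheaf.stalk x) ((Twist.twist 𝒜 b).presheaf.stalk x)) := by
  obtain ⟨g, hg, hgx⟩ := h1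
  obtain ⟨p, q, P, Q, hP, hQ, hd, ninP, ninQ⟩ := GrTilde.exists_fracT hg b
  rw [Nat.cast_one, mul_one] at hd
  let D := Proj.basicOpen 𝒜 g
  have hxD : x ∈ D := hgx
  let gen := GrTilde.fracT (V := D) P Q hP hQ ninQ hd
  have hgen := GrTilde.isGen_fracT hP hQ ninP ninQ hd
  obtain ⟨U, hxU, m, rfl⟩ := TopCat.Presheaf.exists_germ_eq (Twist.twist 𝒜 a).presheaf z
  let W : (Proj 𝒜).Opens := U ⊓ D
  have hxW : x ∈ W := ⟨hxU, hxD⟩
  let m' := (Twist.twist 𝒜 b).presheaf.map (homOfLE (inf_le_left : W ≤ U)).op ((mulN 𝒜 f hf a b h).app U m)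
  obtain ⟨r, hr⟩ := (hgen W inf_le_right).2 m'
  rw [QCoh.stalkLin_germ, ← TopCat.Presheaf.germ_res_apply (Twist.twist 𝒜 b).presheaf
    (homOfLE (inf_le_left : W ≤ U)) x hxW _, show (Twist.twist 𝒜 b).presheaf.map _ _ = m' from rfl, ← hr]
  show (Twist.twist 𝒜 b).presheaf.germ W x hxW (r • _) ∈ _
  rw [WeakAss.germ_smul hxW]
  refine Submodule.smul_mem_smul ?_ trivial
  rw [IsLocalRing.mem_maximalIdeal, mem_nonunits_iff]
  intro hu
  obtain ⟨W', hW'W, hxW', hr'⟩ := (Proj 𝒜).toRingedSpace.isUnit_res_of_isUnit_germ W r x hxW hu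
  obtain ⟨u, hu⟩ := hr'
  have e1 := congrArg (evT (⟨x, hxW⟩ : W)) hr
  rw [evT_smul, evT_mres, GrTilde.evT_fracT] at e1
  have hm' : evT (⟨x, hxW⟩ : W) m' = algebraMap A _ f * evT ⟨x, hxU⟩ m := evT_mulN_app f hf h m ⟨x, hxU⟩
  rw [hm'] at e1
  have hrev : IsUnit (ev (⟨x, hxW⟩ : W) r) := by
    refine IsUnit.of_mul_eq_one (ev (⟨x, hxW'⟩ : W') (↑u⁻¹ : Γ(Proj 𝒜, W'))) ?_
    have e3 : ev (⟨x, hxW'⟩ : W') (Ample.res (leOfHom hW'W) r) = ev (⟨x, hxW⟩ : W) r := rfl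
    have e4 : Ample.res (leOfHom hW'W) r = (u : Γ(Proj 𝒜, W')) := hu.symm
    rw [← e3, e4, ← Ample.ProjTwist.ev_mul, Units.mul_inv, Ample.ProjTwist.ev_one]
  have hPQ : IsUnit (Localization.mk P ⟨Q, ninQ ⟨x, hxD⟩⟩ : Twist.Loc 𝒜 x) := by
    rw [Localization.mk_eq_mk']
    exact IsLocalization.AtPrime.isUnit_mk'_iff (Twist.Loc 𝒜 x) x.asHomogeneousIdeal.toIdeal P _ |>.2 (ninP ⟨x, hxD⟩)
  have := (hrev.mul hPQ)
  rw [e1] at this
  have hfu : IsUnit (algebraMap A (Twist.Loc 𝒜 x) f) := isUnit_of_mul_isUnit_left this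
  exact (IsLocalization.AtPrime.isUnit_to_map_iff (Twist.Loc 𝒜 x) x.asHomogeneousIdeal.toIdeal f).1 hfu hx

end GrothLib.GenHom20
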